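/-
The rank three graph of the sporadic Suzuki group on the certified 1782 points.
-/
import Cfsg.Agent.Lib.SuzOut.Action
import Cfsg.Agent.Lib.CosetEnum.Index
import Cfsg.Agent.Lib.CosetEnum.Coatom

set_option autoImplicit false
set_option maxRecDepth 100000

namespace CfsgLib.SuzRecog

open CfsgLib.CosetEnum CfsgLib.SuzOut

theorem n_eq : Suz1782.cert.T.n = 1782 := rfl

theorem lt_n {d : ℕ} (h : d < 1782) : d < Suz1782.cert.T.n := h

/-- The stabiliser of the first point. -/
noncomputable abbrev Hs : Subgroup presSuz.Grp := Suz1782.cert.sub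

theorem mem_Hs {g : presSuz.Grp} : g ∈ Hs ↔ pt g 0 = 0 := by
  have hn : (0 : ℕ) < Suz1782.cert.T.n := Suz1782.cert.hn
  constructor
  · intro h
    have hl := Suz1782.cert.lab_invariant Suz1782.hlt hid Suz1782.hhw Suz1782.orb Suz1782.roots Suz1782.hwR
      (by decide +kernel) Suz1782.orbs g h ⟨0, hn⟩
    rw [← pt_val] at hl
    have key : allN 1782 (fun d => force d fun d => Nat.beq d 0 || !(Nat.beq (lab d) (lab 0))) = true := by
      decide +kernel
    have := allN_spec key (pt g 0) (pt_lt g hn)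
    rw [force_eq, show lab (pt g 0) = lab 0 from hl, Nat.beq_refl, Bool.not_true, Bool.or_false] at this
    exact Nat.eq_of_beq_eq_true this
  · intro h
    exact Suz1782.cert.mem_sub_of_fix Suz1782.hlt hid Suz1782.hhw
      (g := g) (Fin.ext ((pt_val g ⟨0, hn⟩).symm.trans h))

theorem index_Hs : Hs.index = 1782 := by
  obtain ⟨e, -⟩ := Suz1782.cert.exists_equiv Suz1782.hlt hid Suz1782.hhw
  exact index_eq_of_equiv e

theorem card_Hs : Nat.card Hs = 251596800 := by
  have h := Hs.card_mul_index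
  rw [index_Hs, card_grp] at h
  omega

/-- A word fixing the first point. -/
noncomputable def okH (w : List ℕ) : Bool := okWord w && Nat.beq (run1 w 0) 0

theorem el_mem_Hs {w : List ℕ} (h : okH w = true) : el w ∈ Hs := by
  rw [okH, Bool.and_eq_true] at h
  rw [mem_Hs, pt_el h.1 (lt_n (by norm_num))]
  exact Nat.eq_of_beq_eq_true h.2

theorem pt_inv_smul (g : presSuz.Grp) {b : ℕ} (hb : b < 1782) : pt g⁻¹ (pt g b) = b := by
  rw [← pt_mul _ _ (lt_n hb), inv_mul_cancel, pt_one]

theorem pt_smul_inv (g : presSuz.Grp) {b : ℕ} (hb : b < 1782) : pt g (pt g⁻¹ b) = b := by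
  rw [← pt_mul _ _ (lt_n hb), mul_inv_cancel, pt_one]

theorem pt_lt' (g : presSuz.Grp) {b : ℕ} (hb : b < 1782) : pt g b < 1782 := pt_lt g (lt_n hb)

theorem el_mul (w v : List ℕ) : el w * el v = el (v ++ w) := (el_append v w).symm

/-- The checks of the labels. -/
theorem lab_facts : allN 1782 (fun d => force d fun d =>
    Nat.blt (lab d) 3 && (Nat.beq (lab d) 0 == Nat.beq d 0)) = true := by decide +kernel

theorem lab_lt {d : ℕ} (hd : d < 1782) : lab d < 3 := by
  have h := allN_spec lab_facts d hd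
  rw [force_eq, Bool.and_eq_true] at h
  exact blt_iff.mp h.1

theorem lab_zero {d : ℕ} (hd : d < 1782) : lab d = 0 ↔ d = 0 := by
  have h := allN_spec lab_facts d hd
  rw [force_eq, Bool.and_eq_true, beq_iff_eq] at h
  constructor
  · intro e
    rw [e, Nat.beq_refl] at h
    exact Nat.eq_of_beq_eq_true h.2.symm
  · intro e
    rw [e, Nat.beq_refl] at h
    exact Nat.eq_of_beq_eq_true (by rw [e]; exact h.2)

theorem rel_zero_left (q : ℕ) : rel 0 q = lab q := by
  simp only [rel, force_eq]; rfl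

theorem rel_eq (p q : ℕ) : rel p q = lab (run1 (pathW 48 p) q) := by
  simp only [rel, force_eq]

theorem rel_lt {p q : ℕ} (hp : p < 1782) (hq : q < 1782) : rel p q < 3 := by
  rw [rel_eq]
  exact lab_lt (run_lt (path_spec (lt_n hp)).1 (lt_n hq))

theorem rel_self {p : ℕ} (hp : p < 1782) : rel p p = 0 := by
  rw [rel_eq, (path_spec (lt_n hp)).2]
  exact (lab_zero (by norm_num)).mpr rfl

theorem eq_of_rel {p q : ℕ} (hp : p < 1782) (hq : q < 1782) (h : rel p q = 0) : p = q := by
  obtain ⟨hw, h0⟩ := path_spec (lt_n hp)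
  rw [rel_eq, lab_zero (run_lt hw (lt_n hq))] at h
  rw [← pt_el hw (lt_n hp)] at h0
  rw [← pt_el hw (lt_n hq)] at h
  exact pt_inj (lt_n hp) (lt_n hq) (h0.trans h.symm)

/-- Adjacency: the orbital of valency 416. -/
def Adj (p q : ℕ) : Prop := rel p q = 2

theorem adj_inv (g : presSuz.Grp) {p q : ℕ} (hp : p < 1782) (hq : q < 1782) :
    rel (pt g p) (pt g q) = 2 ↔ rel p q = 2 := by
  rw [rel_inv g (lt_n hp) (lt_n hq)]

theorem lab_Hs {g : presSuz.Grp} (hg : g ∈ Hs) {q : ℕ} (hq : q < 1782) : lab (pt g q) = lab q := by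
  rw [← rel_zero_left, ← rel_zero_left q]
  conv_lhs => rw [← mem_Hs.mp hg]
  exact rel_inv g (lt_n (by norm_num)) (lt_n hq)

/-- The action of a word on the points `d` is a permutation. -/
theorem el_gen {w : List ℕ} (hw : okWord w = true) (d : Fin Suz1782.cert.T.n) :
    (π (el w) d : ℕ) = runT Suz1782.table 7 w d := by
  rw [← pt_val, pt_el hw d.2]

/-- Orbits certified by a tree are orbits of the group generated by the words. -/
theorem orbit_step {gens : List (List ℕ)} {O : Tree} {roots : List ℕ}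
    (hok : okOrbs Suz1782.table 7 gens O roots 0 1782 = true) {S : Subgroup presSuz.Grp}
    (hgens : ∀ w ∈ gens, okWord w = true ∧ el w ∈ S) {d d' : ℕ} (hd : d < 1782) (hd' : d' < 1782)
    (h : orbLab O d = orbLab O d') : ∃ g ∈ S, pt g d = d' := by
  have hok' : ∀ x < 1782, okOrb Suz1782.table 7 gens O roots x = true := fun x hx =>
    okOrbs_sound hok (fun d hd => absurd hd (Nat.not_lt_zero d)) x (by rwa [Nat.zero_add])
  obtain ⟨g, hg, e⟩ := exists_mem_of_lab (T := Suz1782.table) (k := 7) (gens := gens) (O := O) (roots := roots)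
    π S (fun w hw => ⟨el w, (hgens w hw).2, el_gen (hgens w hw).1⟩) hok'
    (d := ⟨d, hd⟩) (d' := ⟨d', hd'⟩) h
  exact ⟨g, hg, (pt_val g ⟨d, hd⟩).trans (congrArg Fin.val e)⟩

end CfsgLib.SuzRecog
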