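/-
Upper bounds for centralisers in the point stabiliser, by candidates for the images of chosen points.
-/
import Cfsg.Agent.Lib.SuzRecog.Basic

set_option autoImplicit false
set_option maxRecDepth 100000

namespace CfsgLib.SuzRecog

open CfsgLib.CosetEnum CfsgLib.SuzOut

/-- The invariants of `r` agree with those of `b`. -/
noncomputable def sigEq (W : List (List ℕ)) (pre : List ℕ) (r b : ℕ) : Bool :=
  force r fun r => (pre.all fun a => Nat.beq (rel a r) (rel a b)) &&
    (W.all fun w => force (run1 w r) fun r' => force (run1 w b) fun b' => Nat.beq (rel r r') (rel b b')) &&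
    (pre.all fun a => W.all fun w => force (run1 w r) fun r' => force (run1 w b) fun b' =>
      Nat.beq (rel a r') (rel a b'))

/-- The possible images of `b`. -/
noncomputable def cands (W : List (List ℕ)) (pre : List ℕ) (b : ℕ) : List ℕ :=
  (List.range 1782).filter fun r => sigEq W pre r b

/-- The levels of a bound and the final fixed points. -/
noncomputable def okLev (W : List (List ℕ)) : List ℕ → List (ℕ × ℕ) → Bool
  | pre, [] => six.all fun b => Nat.beq (cands W pre b).length 1
  | pre, (b, k) :: t => Nat.blt b 1782 && Nat.ble (cands W pre b).length k && okLev W (b :: pre) t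

theorem cands_mem {W : List (List ℕ)} (hW : ∀ w ∈ W, okWord w = true) {g : presSuz.Grp}
    (hg : ∀ w ∈ W, g * el w = el w * g) {pre : List ℕ} (hpre : ∀ a ∈ pre, a < 1782 ∧ pt g a = a) {b : ℕ}
    (hb : b < 1782) : pt g b ∈ cands W pre b := by
  refine List.mem_filter.mpr ⟨List.mem_range.mpr (pt_lt' g hb), ?_⟩
  have hrel : ∀ a ∈ pre, ∀ q, q < 1782 → rel a (pt g q) = rel a q := fun a ha q hq => by
    conv_lhs => rw [← (hpre a ha).2]
    exact rel_inv g (lt_n (hpre a ha).1) (lt_n hq)
  have hrun : ∀ w ∈ W, run1 w (pt g b) = pt g (run1 w b) := fun w hw => pt_comm (hW w hw) (hg w hw) (lt_n hb)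
  simp only [sigEq, force_eq, Bool.and_eq_true, List.all_eq_true]
  refine ⟨⟨fun a ha => ?_, fun w hw => ?_⟩, fun a ha w hw => ?_⟩
  · rw [hrel a ha b hb]; exact Nat.beq_refl _
  · rw [hrun w hw, rel_inv g (lt_n hb) (run_lt (hW w hw) (lt_n hb))]; exact Nat.beq_refl _
  · rw [hrun w hw, hrel a ha _ (run_lt (hW w hw) (lt_n hb))]; exact Nat.beq_refl _

theorem cands_self (W : List (List ℕ)) (pre : List ℕ) {b : ℕ} (hb : b < 1782) : b ∈ cands W pre b := by
  refine List.mem_filter.mpr ⟨List.mem_range.mpr hb, ?_⟩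
  simp only [sigEq, force_eq, Bool.and_eq_true, List.all_eq_true]
  exact ⟨⟨fun _ _ => Nat.beq_refl _, fun _ _ => Nat.beq_refl _⟩, fun _ _ _ _ => Nat.beq_refl _⟩

/-- The order of a subgroup centralising the words and fixing `pre` is bounded by the product of the levels. -/
theorem card_le_lev {W : List (List ℕ)} (hW : ∀ w ∈ W, okWord w = true) :
    ∀ (L : List (ℕ × ℕ)) (pre : List ℕ), okLev W pre L = true → ∀ A : Subgroup presSuz.Grp,
      (∀ g ∈ A, (∀ w ∈ W, g * el w = el w * g) ∧ ∀ a ∈ pre, a < 1782 ∧ pt g a = a) →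
      Nat.card A ≤ (L.map Prod.snd).prod := by
  intro L
  induction L with
  | nil =>
    intro pre hok A hA
    simp only [okLev, List.all_eq_true] at hok
    have hbot : A = ⊥ := by
      rw [Subgroup.eq_bot_iff_forall]
      intro g hg
      refine eq_one_of_six fun b hb => ?_
      have h1 := Nat.eq_of_beq_eq_true (hok b hb)
      obtain ⟨c, hc⟩ := List.length_eq_one_iff.mp h1
      have h2 := cands_mem hW (hA g hg).1 (hA g hg).2 (show b < 1782 from six_lt b hb)
      have h3 := cands_self W pre (show b < 1782 from six_lt b hb)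
      rw [hc, List.mem_singleton] at h2 h3
      exact h2.trans h3.symm
    rw [hbot, Subgroup.card_bot]; rfl
  | cons p t ih =>
    obtain ⟨b, k⟩ := p
    intro pre hok A hA
    simp only [okLev, Bool.and_eq_true, blt_iff, Nat.ble_eq] at hok
    obtain ⟨⟨hb, hlen⟩, hrest⟩ := hok
    set B : Subgroup presSuz.Grp :=
      A ⊓ (MulAction.stabilizer (Equiv.Perm (Fin Suz1782.cert.T.n)) (⟨b, lt_n hb⟩ : Fin Suz1782.cert.T.n)).comap π with hB
    have hBfix : ∀ g ∈ B, pt g b = b := fun g hg =>
      (pt_val g ⟨b, lt_n hb⟩).trans (congrArg Fin.val hg.2)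
    have hBle : Nat.card B ≤ (t.map Prod.snd).prod := ih (b :: pre) hrest B fun g hg =>
      ⟨(hA g hg.1).1, fun a ha => (List.mem_cons.mp ha).elim (fun e => by rw [e]; exact ⟨hb, hBfix g hg⟩) ((hA g hg.1).2 a)⟩
    letI : MulAction A (Fin Suz1782.cert.T.n) := MulAction.compHom _ (π.comp A.subtype)
    have hst : MulAction.stabilizer A (⟨b, lt_n hb⟩ : Fin Suz1782.cert.T.n) = B.subgroupOf A := by
      ext g
      exact ⟨fun h => ⟨g.2, h⟩, fun h => h.2⟩
    have hidx : (B.subgroupOf A).index ≤ k := by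
      rw [← hst, MulAction.index_stabilizer]
      refine le_trans ?_ ((List.toFinset_card_le _).trans hlen)
      rw [← Set.ncard_coe_finset, ← Set.ncard_image_of_injective _ (f := fun d : Fin Suz1782.cert.T.n => (d : ℕ))
        (fun _ _ h => Fin.ext h)]
      refine Set.ncard_le_ncard ?_ (Finset.finite_toSet _)
      rintro _ ⟨_, ⟨g, rfl⟩, rfl⟩
      rw [Finset.mem_coe, List.mem_toFinset]
      show (π (g : presSuz.Grp) ⟨b, lt_n hb⟩ : ℕ) ∈ _
      rw [← pt_val]
      exact cands_mem hW (hA g.1 g.2).1 (hA g.1 g.2).2 hb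
    have h := (B.subgroupOf A).card_mul_index
    rw [Nat.card_congr (Subgroup.subgroupOfEquivOfLe inf_le_left).toEquiv] at h
    rw [← h, List.map_cons, List.prod_cons, mul_comm k]
    exact Nat.mul_le_mul hBle hidx

end CfsgLib.SuzRecog
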