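/-
The automorphisms of the graph on 1782 points: at most twice the order of the Suzuki group.
-/
import Cfsg.Agent.Lib.SuzRecog.Cand
import Cfsg.Agent.Lib.SuzRecog.AutData

set_option autoImplicit false
set_option maxRecDepth 100000
set_option linter.style.haveILetI false

namespace CfsgLib.SuzRecog

open CfsgLib.CosetEnum CfsgLib.SuzOut

/-- The automorphisms of the graph. -/
noncomputable def AutGr : Subgroup (Equiv.Perm (Fin Suz1782.cert.T.n)) where
  carrier := {σ | ∀ i j, rel (σ i : ℕ) (σ j : ℕ) = rel (i : ℕ) (j : ℕ)}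
  one_mem' := fun _ _ => rfl
  mul_mem' := fun {σ τ} hs ht i j => (hs (τ i) (τ j)).trans (ht i j)
  inv_mem' := fun {σ} hs i j => by
    have := hs (σ⁻¹ i) (σ⁻¹ j)
    simpa using this.symm

theorem mem_AutGr {σ : Equiv.Perm (Fin Suz1782.cert.T.n)} :
    σ ∈ AutGr ↔ ∀ i j, rel (σ i : ℕ) (σ j : ℕ) = rel (i : ℕ) (j : ℕ) := Iff.rfl

theorem π_mem (g : presSuz.Grp) : π g ∈ AutGr := fun i j => by
  rw [← pt_val, ← pt_val]
  exact rel_inv g i.2 j.2

/-- The image of a point. -/
noncomputable def img (σ : Equiv.Perm (Fin Suz1782.cert.T.n)) (b : ℕ) : ℕ :=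
  if h : b < Suz1782.cert.T.n then (σ ⟨b, h⟩ : ℕ) else b

theorem img_val (σ : Equiv.Perm (Fin Suz1782.cert.T.n)) (b : Fin Suz1782.cert.T.n) : img σ b = (σ b : ℕ) := by
  rw [img, dif_pos b.2]

theorem img_lt (σ : Equiv.Perm (Fin Suz1782.cert.T.n)) {b : ℕ} (hb : b < 1782) : img σ b < 1782 := by
  rw [img, dif_pos (lt_n hb)]
  exact Fin.is_lt _

theorem img_rel {σ : Equiv.Perm (Fin Suz1782.cert.T.n)} (hσ : σ ∈ AutGr) {a b : ℕ} (ha : a < 1782) (hb : b < 1782) :
    rel (img σ a) (img σ b) = rel a b := by
  rw [img, img, dif_pos (lt_n ha), dif_pos (lt_n hb)]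
  exact hσ ⟨a, lt_n ha⟩ ⟨b, lt_n hb⟩

/-- The points with the relations of `b` to the given points. -/
noncomputable def relCands (pre : List ℕ) (b : ℕ) : List ℕ :=
  (List.range 1782).filter fun r => force r fun r => pre.all fun a => Nat.beq (rel a r) (rel a b)

theorem relCands_mem {σ : Equiv.Perm (Fin Suz1782.cert.T.n)} (hσ : σ ∈ AutGr) {pre : List ℕ}
    (hpre : ∀ a ∈ pre, a < 1782 ∧ img σ a = a) {b : ℕ} (hb : b < 1782) : img σ b ∈ relCands pre b := by
  refine List.mem_filter.mpr ⟨List.mem_range.mpr (img_lt σ hb), ?_⟩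
  simp only [force_eq, List.all_eq_true]
  intro a ha
  conv => enter [1, 1]; rw [← (hpre a ha).2]
  rw [img_rel hσ (hpre a ha).1 hb]
  exact Nat.beq_refl _

theorem relCands_self (pre : List ℕ) {b : ℕ} (hb : b < 1782) : b ∈ relCands pre b := by
  refine List.mem_filter.mpr ⟨List.mem_range.mpr hb, ?_⟩
  simp only [force_eq, List.all_eq_true]
  exact fun _ _ => Nat.beq_refl _

/-- The base. -/
def autBase : List (ℕ × ℕ) :=
  [(0, 1782), (47, 416), (79, 100), (125, 36), (271, 14), (995, 4), (304, 3), (84, 2)]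

/-- The checks of the levels. -/
noncomputable def okBase : List ℕ → List (ℕ × ℕ) → Bool
  | _, [] => true
  | pre, (b, k) :: t => Nat.blt b 1782 && Nat.ble (relCands pre b).length k && okBase (b :: pre) t

theorem base_ok : okBase [] autBase = true := by decide +kernel

/-- The first fixed points. -/
def fixA : List ℕ := [84, 304, 995, 271, 125, 79, 47, 0]

theorem pins1_ok : (pins1.all fun b => Nat.blt b 1782 && Nat.beq (relCands fixA b).length 1) = true := by
  decide +kernel

theorem pins2_ok : (pins2.all fun b => Nat.blt b 1782 && Nat.beq (relCands (fixA ++ pins1) b).length 1) = true := by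
  decide +kernel

/-- The points whose relations determine every point. -/
def fixC : List ℕ := [0, 47, 79, 125, 271, 995, 304, 84] ++ pins1 ++ pins2

/-- The signature of a point. -/
noncomputable def sigKey (q : ℕ) : ℕ :=
  force q fun q => List.rec (motive := fun _ => ℕ → ℕ) (fun acc => acc)
    (fun a _ ih acc => force (Nat.add (Nat.mul acc 4) (rel a q)) ih) fixC 0

theorem keys_ok : allN 1782 (fun d => force d fun d => force (entry keyPos 64 12 d) fun p =>
    Nat.blt p 1782 && Nat.beq (entry keyPt 64 12 p) d && Nat.beq (entry keys 8 keyBits p) (sigKey d)) = true := by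
  decide +kernel

theorem keys_mono : allN 1781 (fun p => force p fun p =>
    Nat.blt (entry keys 8 keyBits p) (entry keys 8 keyBits (Nat.succ p))) = true := by decide +kernel

theorem eq_of_sigKey {d d' : ℕ} (hd : d < 1782) (hd' : d' < 1782) (h : sigKey d = sigKey d') : d = d' := by
  have h1 := allN_spec keys_ok d hd
  have h2 := allN_spec keys_ok d' hd'
  simp only [force_eq, Bool.and_eq_true, blt_iff] at h1 h2
  obtain ⟨⟨hp, hi⟩, hk⟩ := h1
  obtain ⟨⟨hp', hi'⟩, hk'⟩ := h2
  have hmono : ∀ m p, p + m < 1782 → 0 < m → entry keys 8 keyBits p < entry keys 8 keyBits (p + m) := by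
    intro m
    induction m with
    | zero => intro p _ h; omega
    | succ m ih =>
      intro p hp _
      have h3 := allN_spec keys_mono (p + m) (by omega)
      simp only [force_eq, blt_iff] at h3
      rcases Nat.eq_zero_or_pos m with rfl | hm
      · exact h3
      · exact (ih p (by omega) hm).trans h3
  have heq : entry keyPos 64 12 d = entry keyPos 64 12 d' := by
    have e := (Nat.eq_of_beq_eq_true hk).trans (h.trans (Nat.eq_of_beq_eq_true hk').symm)
    rcases Nat.lt_trichotomy (entry keyPos 64 12 d) (entry keyPos 64 12 d') with hlt | he | hlt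
    · exfalso
      obtain ⟨m, hm⟩ := Nat.exists_eq_add_of_lt hlt
      have := hmono (m + 1) (entry keyPos 64 12 d) (by omega) (by omega)
      rw [← Nat.add_assoc, ← hm] at this
      omega
    · exact he
    · exfalso
      obtain ⟨m, hm⟩ := Nat.exists_eq_add_of_lt hlt
      have := hmono (m + 1) (entry keyPos 64 12 d') (by omega) (by omega)
      rw [← Nat.add_assoc, ← hm] at this
      omega
  rw [← Nat.eq_of_beq_eq_true hi, heq, Nat.eq_of_beq_eq_true hi']

theorem pinned {σ : Equiv.Perm (Fin Suz1782.cert.T.n)} (hσ : σ ∈ AutGr) {pre L : List ℕ}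
    (hpre : ∀ a ∈ pre, a < 1782 ∧ img σ a = a)
    (hL : (L.all fun b => Nat.blt b 1782 && Nat.beq (relCands pre b).length 1) = true) :
    ∀ b ∈ L, b < 1782 ∧ img σ b = b := by
  intro b hb
  have h := List.all_eq_true.mp hL b hb
  rw [Bool.and_eq_true, blt_iff] at h
  obtain ⟨c, hc⟩ := List.length_eq_one_iff.mp (Nat.eq_of_beq_eq_true h.2)
  have h2 := relCands_mem hσ hpre h.1
  have h3 := relCands_self pre h.1
  rw [hc, List.mem_singleton] at h2 h3
  exact ⟨h.1, h2.trans h3.symm⟩

theorem eq_one_of_fix {σ : Equiv.Perm (Fin Suz1782.cert.T.n)} (hσ : σ ∈ AutGr)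
    (hfix : ∀ a ∈ fixA, a < 1782 ∧ img σ a = a) : σ = 1 := by
  have h1 := pinned hσ hfix pins1_ok
  have hB : ∀ a ∈ fixA ++ pins1, a < 1782 ∧ img σ a = a := fun a ha => (List.mem_append.mp ha).elim (hfix a) (h1 a)
  have h2 := pinned hσ hB pins2_ok
  have hC : ∀ a ∈ fixC, a < 1782 ∧ img σ a = a := by
    intro a ha
    simp only [fixC, List.mem_append] at ha
    rcases ha with (ha | ha) | ha
    · refine hfix a ?_
      simp only [List.mem_cons, List.not_mem_nil, or_false] at ha
      simp only [fixA, List.mem_cons, List.not_mem_nil, or_false]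
      omega
    · exact h1 a ha
    · exact h2 a ha
  refine Equiv.ext fun i => Fin.ext ?_
  have hi : (i : ℕ) < 1782 := i.2
  refine (eq_of_sigKey (Fin.is_lt (σ i)) hi ?_ : _)
  simp only [sigKey, force_eq]
  have key : ∀ L : List ℕ, (∀ a ∈ L, a < 1782 ∧ img σ a = a) → ∀ acc,
      List.rec (motive := fun _ => ℕ → ℕ) (fun acc => acc)
        (fun a _ ih acc => ih (Nat.add (Nat.mul acc 4) (rel a (σ i : ℕ)))) L acc =
      List.rec (motive := fun _ => ℕ → ℕ) (fun acc => acc)
        (fun a _ ih acc => ih (Nat.add (Nat.mul acc 4) (rel a (i : ℕ)))) L acc := by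
    intro L
    induction L with
    | nil => intro _ _; rfl
    | cons a L ih =>
      intro hL acc
      have ha := hL a List.mem_cons_self
      have e : rel a (σ i : ℕ) = rel a (i : ℕ) := by
        conv_lhs => rw [← ha.2, ← img_val]
        exact img_rel hσ ha.1 hi
      show _ = _
      dsimp only
      rw [e]
      exact ih (fun b hb => hL b (List.mem_cons_of_mem _ hb)) _
  exact key fixC hC 0

theorem card_fix_le : ∀ (L : List (ℕ × ℕ)) (pre : List ℕ), okBase pre L = true →
    (L.map Prod.fst).reverse ++ pre = fixA →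
    ∀ A : Subgroup (Equiv.Perm (Fin Suz1782.cert.T.n)), A ≤ AutGr →
      (∀ σ ∈ A, ∀ a ∈ pre, a < 1782 ∧ img σ a = a) → Nat.card A ≤ (L.map Prod.snd).prod := by
  intro L
  induction L with
  | nil =>
    intro pre _ hpre A hA hfix
    have hbot : A = ⊥ := by
      rw [Subgroup.eq_bot_iff_forall]
      exact fun σ hσ => eq_one_of_fix (hA hσ) fun a ha => hfix σ hσ a (by simpa [← hpre] using ha)
    rw [hbot, Subgroup.card_bot]; rfl
  | cons p t ih =>
    obtain ⟨b, k⟩ := p
    intro pre hok hpre A hA hfix
    simp only [okBase, Bool.and_eq_true, blt_iff, Nat.ble_eq] at hok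
    obtain ⟨⟨hb, hlen⟩, hrest⟩ := hok
    set pb : Fin Suz1782.cert.T.n := ⟨b, lt_n hb⟩ with hpb
    set B := A ⊓ MulAction.stabilizer (Equiv.Perm (Fin Suz1782.cert.T.n)) pb with hB
    have hBle : Nat.card B ≤ (t.map Prod.snd).prod := by
      refine ih (b :: pre) hrest (by simpa [List.append_assoc] using hpre) B (inf_le_left.trans hA) ?_
      intro σ hσ a ha
      rcases List.mem_cons.mp ha with rfl | ha
      · refine ⟨hb, ?_⟩
        rw [img, dif_pos (lt_n hb)]
        exact congrArg Fin.val hσ.2
      · exact hfix σ hσ.1 a ha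
    have hst : MulAction.stabilizer A pb = B.subgroupOf A := by
      ext g
      exact ⟨fun h => ⟨g.2, h⟩, fun h => h.2⟩
    have hidx : (B.subgroupOf A).index ≤ k := by
      rw [← hst, MulAction.index_stabilizer]
      refine le_trans ?_ ((List.toFinset_card_le _).trans hlen)
      rw [← Set.ncard_coe_finset, ← Set.ncard_image_of_injective _ (f := fun d : Fin Suz1782.cert.T.n => (d : ℕ))
        (fun _ _ h => Fin.ext h)]
      refine Set.ncard_le_ncard ?_ (Finset.finite_toSet _)
      rintro _ ⟨_, ⟨g, rfl⟩, rfl⟩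
      rw [Finset.mem_coe, List.mem_toFinset]
      show ((g : Equiv.Perm (Fin Suz1782.cert.T.n)) pb : ℕ) ∈ _
      rw [← img_val]
      exact relCands_mem (hA g.2) (hfix g.1 g.2) hb
    have h := (B.subgroupOf A).card_mul_index
    rw [Nat.card_congr (Subgroup.subgroupOfEquivOfLe inf_le_left).toEquiv] at h
    rw [← h, List.map_cons, List.prod_cons, mul_comm k]
    exact Nat.mul_le_mul hBle hidx

theorem card_AutGr : Nat.card AutGr ≤ 2 * 448345497600 := by
  refine (card_fix_le autBase [] base_ok (by decide) AutGr le_rfl (by simp)).trans ?_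
  decide +kernel

theorem π_injective : Function.Injective π := by
  rw [← MonoidHom.ker_eq_bot_iff, Subgroup.eq_bot_iff_forall]
  intro g hg
  refine eq_one_of_six fun b hb => ?_
  rw [pt, dif_pos (six_lt b hb), MonoidHom.mem_ker.mp hg, Equiv.Perm.one_apply]

/-- A perfect group of the order of the Suzuki group acting faithfully on the graph is the Suzuki group. -/
theorem iso_of_action {Γ : Type*} [Group Γ] [Finite Γ] (hperf : commutator Γ = ⊤)
    (hcard : Nat.card Γ = 448345497600) (f : Γ →* AutGr) (hf : Function.Injective f) :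
    Nonempty (Γ ≃* presSuz.Grp) := by
  let ρ : presSuz.Grp →* AutGr := π.codRestrict AutGr π_mem
  have hρ : Function.Injective ρ := fun g h e => π_injective (congrArg Subtype.val e)
  set Q := ρ.range with hQ
  have hQc : Nat.card Q = 448345497600 := by
    rw [← Nat.card_congr (MonoidHom.ofInjective hρ).toEquiv]; exact card_grp
  have hidx : Q.index = 1 ∨ Q.index = 2 := by
    have h1 := Q.card_mul_index
    have h2 := card_AutGr
    have h3 : 0 < Q.index := Nat.pos_of_ne_zero Subgroup.index_ne_zero_of_finite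
    rw [hQc] at h1
    omega
  have hle : f.range ≤ Q := by
    rcases hidx with h | h
    · rw [Subgroup.index_eq_one.mp h]; exact le_top
    · haveI : Q.Normal := Subgroup.normal_of_index_eq_two h
      haveI : Fact (Nat.Prime 2) := ⟨Nat.prime_two⟩
      haveI : IsCyclic (AutGr ⧸ Q) := isCyclic_of_prime_card (p := 2) (by rw [← Subgroup.index_eq_card, h])
      have hc : commutator AutGr ≤ Q :=
        Subgroup.Normal.quotient_commutative_iff_commutator_le.mp IsCyclic.isMulCommutative
      refine le_trans ?_ hc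
      rw [MonoidHom.range_eq_map, ← hperf, commutator_def, commutator_def, Subgroup.map_commutator]
      exact Subgroup.commutator_mono le_top le_top
  have heq : f.range = Q := Subgroup.eq_of_le_of_card_ge hle
    (by rw [hQc, ← Nat.card_congr (MonoidHom.ofInjective hf).toEquiv, hcard])
  exact ⟨(MonoidHom.ofInjective hf).trans ((MulEquiv.subgroupCongr heq).trans (MonoidHom.ofInjective hρ).symm)⟩

end CfsgLib.SuzRecog
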