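/-
Counting the Sylow 5-subgroups of a subgroup of order 604800.
-/
import Mathlib.GroupTheory.Sylow
import Mathlib.GroupTheory.IndexNormal
import Mathlib.GroupTheory.SpecificGroups.Cyclic
import Mathlib.LinearAlgebra.Matrix.GeneralLinearGroup.Card
import Mathlib.LinearAlgebra.Matrix.GeneralLinearGroup.Basic
import Mathlib.LinearAlgebra.Matrix.NonsingularInverse
import Mathlib.Algebra.Module.ZMod
import Mathlib.Algebra.CharP.Lemmas
import Mathlib.Algebra.CharP.Two
import Mathlib.Tactic.NormNum.Prime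
import Mathlib.Tactic.NormNum.GCD
import Mathlib.Algebra.Field.ZMod

set_option autoImplicit false
set_option linter.style.haveILetI false
set_option linter.unusedSectionVars false

namespace CfsgLib.SuzRecog

open scoped Pointwise
open Matrix

instance fact_five : Fact (Nat.Prime 5) := ⟨by norm_num⟩

theorem fac_five : (604800 : ℕ).factorization 5 = 2 := by
  have h5 : Nat.Prime 5 := by norm_num
  refine le_antisymm ?_ ((h5.pow_dvd_iff_le_factorization (by norm_num)).mp (by norm_num))
  by_contra h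
  have := (h5.pow_dvd_iff_le_factorization (k := 3) (show (604800 : ℕ) ≠ 0 by norm_num)).mpr (by omega)
  norm_num at this

theorem card_gl_two_five : Nat.card (GL (Fin 2) (ZMod 5)) = 480 := by
  rw [Matrix.card_GL_field]
  simp [Fin.prod_univ_two]

/-- A group of 2-elements of GL(2, 5) fixing a line has order at most 16. -/
theorem two_group_line (A : Subgroup (GL (Fin 2) (ZMod 5))) (hA : IsPGroup 2 A) (v : Fin 2 → ZMod 5) (hv : v ≠ 0)
    (hline : ∀ g ∈ A, ∃ c : ZMod 5, (g : Matrix (Fin 2) (Fin 2) (ZMod 5)) *ᵥ v = c • v) :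
    Nat.card A ≤ 16 := by
  classical
  choose c hc using fun g : A => hline g.1 g.2
  have hc0 : ∀ g, c g ≠ 0 := fun g h => by
    have e := hc g
    rw [h, zero_smul] at e
    have := congrArg (fun u => ((g.1⁻¹ : GL (Fin 2) (ZMod 5)) : Matrix (Fin 2) (Fin 2) (ZMod 5)) *ᵥ u) e
    simp only [Matrix.mulVec_mulVec, Matrix.mulVec_zero, ← Units.val_mul, inv_mul_cancel, Units.val_one,
      Matrix.one_mulVec] at this
    exact hv this
  let f : A → (ZMod 5)ˣ × (ZMod 5)ˣ := fun g => (Units.mk0 (c g) (hc0 g), Matrix.GeneralLinearGroup.det g.1)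
  have hinj : Function.Injective f := by
    intro g h e
    simp only [f, Prod.mk.injEq] at e
    obtain ⟨e1, e2⟩ := e
    have e1' : c g = c h := congrArg (fun u : (ZMod 5)ˣ => (u : ZMod 5)) e1
    set q : A := h⁻¹ * g with hq
    suffices q = 1 by exact (inv_mul_eq_one.mp this).symm
    set Q : Matrix (Fin 2) (Fin 2) (ZMod 5) := ((q.1 : GL (Fin 2) (ZMod 5)) : Matrix (Fin 2) (Fin 2) (ZMod 5)) with hQ
    have hQv : Q *ᵥ v = v := by
      have hh : ((h.1⁻¹ : GL (Fin 2) (ZMod 5)) : Matrix (Fin 2) (Fin 2) (ZMod 5)) *ᵥ ((h.1 : Matrix (Fin 2) (Fin 2) (ZMod 5)) *ᵥ v) = v := by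
        rw [Matrix.mulVec_mulVec, ← Units.val_mul, inv_mul_cancel, Units.val_one, Matrix.one_mulVec]
      rw [hc h] at hh
      show ((h.1⁻¹ * g.1 : GL (Fin 2) (ZMod 5)) : Matrix (Fin 2) (Fin 2) (ZMod 5)) *ᵥ v = v
      rw [Units.val_mul, ← Matrix.mulVec_mulVec, hc g, e1', hh]
    have hQd : Q.det = 1 := by
      have : Matrix.GeneralLinearGroup.det (h.1⁻¹ * g.1) = 1 := by rw [map_mul, map_inv, e2, inv_mul_cancel]
      exact congrArg (fun u : (ZMod 5)ˣ => (u : ZMod 5)) this
    have hd : (Q - 1).det = 0 := by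
      rw [← Matrix.exists_mulVec_eq_zero_iff]
      exact ⟨v, hv, by rw [Matrix.sub_mulVec, hQv, Matrix.one_mulVec, sub_self]⟩
    rw [Matrix.det_fin_two] at hQd
    rw [Matrix.det_fin_two] at hd
    simp only [Matrix.sub_apply, Matrix.one_apply_eq, ne_eq, one_ne_zero, not_false_eq_true,
      Matrix.one_apply_ne, zero_ne_one, sub_zero] at hd
    have hN : (Q - 1) * (Q - 1) = 0 := by
      ext i j
      fin_cases i <;> fin_cases j <;>
        simp [Matrix.mul_apply, Fin.sum_univ_two, Matrix.sub_apply] <;> grind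
    have hpow : ∀ n : ℕ, Q ^ n = 1 + (n : ZMod 5) • (Q - 1) := by
      intro n
      induction n with
      | zero => simp
      | succ n ih =>
        rw [pow_succ, ih]
        conv_lhs => enter [2]; rw [show Q = 1 + (Q - 1) by abel]
        rw [add_mul, mul_add, mul_add, smul_mul_assoc, smul_mul_assoc, mul_one, mul_one, one_mul, hN, smul_zero,
          add_zero, Nat.cast_succ, add_smul, one_smul]
        abel
    have h5 : Q ^ 5 = 1 := by
      rw [hpow, show ((5 : ℕ) : ZMod 5) = 0 from rfl, zero_smul, add_zero]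
    have hq5 : q ^ 5 = 1 := by
      refine Subtype.ext (Units.ext ?_)
      simpa [hQ] using h5
    obtain ⟨n, hn⟩ := hA q
    have := pow_gcd_eq_one.mpr ⟨hq5, hn⟩
    rwa [show Nat.gcd 5 (2 ^ n) = 1 from Nat.Coprime.pow_right n (by norm_num), pow_one] at this
  refine (Nat.card_le_card_of_injective f hinj).trans (le_of_eq ?_)
  rw [Nat.card_prod, Nat.card_units]
  simp

variable {G : Type*} [Group G]

/-- The set of subgroups of order 25 inside a subgroup. -/
def sub25 (M : Subgroup G) : Set (Subgroup G) := {Q | Q ≤ M ∧ Nat.card Q = 25}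

theorem card_sub25 [Finite G] (M : Subgroup G) (hM : Nat.card M = 604800) (_Q₀ : Sylow 5 M) :
    Nat.card (sub25 M) = Nat.card (Sylow 5 M) := by
  have hp : ∀ Q : Sylow 5 M, Nat.card Q = 25 := fun Q => by
    rw [Q.card_eq_multiplicity, hM, fac_five]
    norm_num
  symm
  refine Nat.card_congr
    { toFun := fun Q => ⟨(Q : Subgroup M).map M.subtype,
        Subgroup.map_subtype_le _, (Subgroup.card_map_of_injective M.subtype_injective).trans (hp Q)⟩
      invFun := fun Q => Sylow.ofCard ((Q.1).subgroupOf M) (by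
        rw [Nat.card_congr (Subgroup.subgroupOfEquivOfLe Q.2.1).toEquiv, Q.2.2, hM, fac_five]; norm_num)
      left_inv := fun Q => Sylow.ext (by simp [Subgroup.comap_map_eq_self_of_injective M.subtype_injective, Subgroup.subgroupOf])
      right_inv := fun Q => Subtype.ext (by
        simp [Subgroup.map_subgroupOf_eq_of_le Q.2.1]) }

theorem comm_of_card25 [Finite G] {Q : Subgroup G} (hQ : Nat.card Q = 25) : ∀ a ∈ Q, ∀ b ∈ Q, a * b = b * a :=
  fun a ha b hb => by
    have := IsPGroup.isMulCommutative_of_card_eq_prime_sq (G := Q) (p := 5) (by rw [hQ]; norm_num)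
    exact congrArg Subtype.val (mul_comm' (⟨a, ha⟩ : Q) ⟨b, hb⟩)

theorem zpowers_five {l : G} (hl : orderOf l = 5) {g : G} (hg : g ∈ Subgroup.zpowers l) (hg1 : g ≠ 1) :
    Subgroup.zpowers g = Subgroup.zpowers l := by
  have hle : Subgroup.zpowers g ≤ Subgroup.zpowers l := Subgroup.zpowers_le.mpr hg
  have : Finite (Subgroup.zpowers l) := Nat.finite_of_card_ne_zero (by rw [Nat.card_zpowers, hl]; norm_num)
  refine Subgroup.eq_of_le_of_card_ge hle ?_
  rw [Nat.card_zpowers, Nat.card_zpowers, hl]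
  have hd := orderOf_dvd_of_mem_zpowers hg
  rw [hl] at hd
  rcases (Nat.dvd_prime (by norm_num)).mp hd with h | h
  · exact absurd (orderOf_eq_one_iff.mp h) hg1
  · omega

/-- The hypotheses on a subgroup of order 25 and its six subgroups of order 5. -/
structure FiveData (G : Type*) [Group G] where
  /-- the subgroup -/
  P : Subgroup G
  /-- generators of its subgroups of order 5 -/
  line : Fin 6 → G
  /-- elements centralising them -/
  gens : Fin 6 → List G
  /-- coordinates -/
  coord : Multiplicative (Fin 2 → ZMod 5) ≃* P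
  line_mem : ∀ i, line i ∈ P
  line_order : ∀ i, orderOf (line i) = 5
  line_inj : ∀ i j, line i ∈ Subgroup.zpowers (line j) → i = j
  line_cover : ∀ g ∈ P, g = 1 ∨ ∃ i, g ∈ Subgroup.zpowers (line i)
  cent_line : ∀ i, Nat.card (Subgroup.centralizer ({line i} : Set G)) ≤ 300
  gens_comm : ∀ i, ∀ g ∈ gens i, g * line i = line i * g
  gens_odd : ∀ i, ∀ g ∈ gens i, g ^ 15 = 1
  gens_three : ∀ i, ∃ g ∈ gens i, orderOf g = 3
  cent_P : ∀ g : G, (∀ p ∈ P, g * p = p * g) → g ∈ P

namespace FiveData

variable [Finite G] (d : FiveData G)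

theorem card_P : Nat.card d.P = 25 := by
  rw [← Nat.card_congr d.coord.toEquiv, Nat.card_congr Multiplicative.toAdd, Nat.card_fun]
  simp

/-- The lines with a second Sylow subgroup of `M` through them. -/
def Full (M : Subgroup G) (i : Fin 6) : Prop :=
  ∃ Q ∈ sub25 M, Q ≠ d.P ∧ d.line i ∈ Q

theorem line_inf {Q : Subgroup G} (hQ : Nat.card Q = 25) (hne : Q ≠ d.P) {i : Fin 6} (hi : d.line i ∈ Q) :
    Q ⊓ d.P = Subgroup.zpowers (d.line i) := by
  refine (Subgroup.eq_of_le_of_card_ge (le_inf (Subgroup.zpowers_le.mpr hi)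
    (Subgroup.zpowers_le.mpr (d.line_mem i))) ?_).symm
  rw [Nat.card_zpowers, d.line_order]
  have h1 : Nat.card (Q ⊓ d.P : Subgroup G) ∣ 5 ^ 2 := by
    have := Subgroup.card_dvd_of_le (inf_le_left : Q ⊓ d.P ≤ Q)
    rwa [hQ] at this
  obtain ⟨j, hj, e⟩ := (Nat.dvd_prime_pow (by norm_num)).mp h1
  interval_cases j
  · rw [e]; norm_num
  · rw [e]; norm_num
  · exfalso
    replace e : Nat.card (Q ⊓ d.P : Subgroup G) = 25 := e
    have h2 : Q ⊓ d.P = Q := Subgroup.eq_of_le_of_card_ge inf_le_left (by omega)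
    have h3 : Q ⊓ d.P = d.P := Subgroup.eq_of_le_of_card_ge inf_le_right (by have := d.card_P; omega)
    exact hne (h2.symm.trans h3)

/-- A full line has the whole centraliser. -/
theorem full_facts {M : Subgroup G} (hM : Nat.card M = 604800) (hP : d.P ≤ M) {i : Fin 6} (h : d.Full M i) :
    (∀ g ∈ d.gens i, g ∈ M) ∧
      Nat.card {Q : Subgroup G | Q ∈ sub25 M ∧ d.line i ∈ Q} = 6 := by
  classical
  obtain ⟨Q, ⟨hQM, hQc⟩, hQne, hQi⟩ := h
  set C := Subgroup.centralizer ({d.line i} : Set G) with hC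
  set D := M ⊓ C with hD
  have hinC : ∀ {R : Subgroup G}, Nat.card R = 25 → d.line i ∈ R → R ≤ C := fun {R} hR hl g hg => by
    rw [hC, Subgroup.mem_centralizer_singleton_iff]
    exact comm_of_card25 hR g hg _ hl
  have hPD : d.P ≤ D := le_inf hP (hinC d.card_P (d.line_mem i))
  have hQD : Q ≤ D := le_inf hQM (hinC hQc hQi)
  have h25 : 25 ∣ Nat.card D := d.card_P ▸ Subgroup.card_dvd_of_le hPD
  have hDle : Nat.card D ≤ 300 := (Subgroup.card_le_of_le inf_le_right).trans (d.cent_line i)
  have hDM : Nat.card D ∣ 604800 := hM ▸ Subgroup.card_dvd_of_le inf_le_left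
  have hfac : (Nat.card D).factorization 5 = 2 := by
    have hD0 : Nat.card D ≠ 0 := Nat.card_pos.ne'
    refine le_antisymm ?_ ?_
    · have := (Nat.factorization_le_iff_dvd hD0 (by norm_num)).mpr hDM 5
      have e := fac_five
      omega
    · exact (Nat.Prime.pow_dvd_iff_le_factorization (by norm_num) hD0).mp (by simpa using h25)
  let syl : (R : Subgroup G) → R ≤ D → Nat.card R = 25 → Sylow 5 D := fun R hR hc =>
    Sylow.ofCard (R.subgroupOf D) (by
      rw [Nat.card_congr (Subgroup.subgroupOfEquivOfLe hR).toEquiv, hc, hfac]; norm_num)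
  have hsyl : ∀ (S : Sylow 5 D), Nat.card S = 25 := fun S => by
    rw [S.card_eq_multiplicity, hfac]; norm_num
  set PD := syl d.P hPD d.card_P
  -- the number of Sylow subgroups
  have hn1 : Nat.card (Sylow 5 D) ≠ 1 := fun h1 => by
    have := (Nat.card_eq_one_iff_unique.mp h1).1
    have e : PD = syl Q hQD hQc := Subsingleton.elim _ _
    have e2 : d.P.subgroupOf D = Q.subgroupOf D := congrArg Sylow.toSubgroup e
    have e3 := congrArg (Subgroup.map D.subtype) e2
    rw [Subgroup.map_subgroupOf_eq_of_le hPD, Subgroup.map_subgroupOf_eq_of_le hQD] at e3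
    exact hQne e3.symm
  have hnmod := card_sylow_modEq_one 5 D
  have hndvd : Nat.card (Sylow 5 D) ∣ Nat.card D / 25 := by
    have := PD.card_dvd_index
    have e := (PD : Subgroup D).card_mul_index
    rw [hsyl] at e
    rwa [← e, Nat.mul_div_cancel_left _ (by norm_num : 0 < 25)]
  -- elements of order dividing 15 lie in a subgroup of index at most 2
  have hgen : ∀ g ∈ d.gens i, g ∈ C := fun g hg => by
    rw [hC, Subgroup.mem_centralizer_singleton_iff]
    exact d.gens_comm i g hg
  obtain ⟨m, hm⟩ := h25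
  have hm0 : m ≠ 0 := by
    intro h0; rw [h0, mul_zero] at hm; exact Nat.card_pos.ne' hm
  have hm12 : m ≤ 12 := by omega
  rw [hm, Nat.mul_div_cancel_left _ (by norm_num : 0 < 25)] at hndvd
  have hn6 : 6 ≤ Nat.card (Sylow 5 D) := by
    rcases Nat.lt_or_ge (Nat.card (Sylow 5 D)) 6 with h' | h'
    · exfalso
      have h0 : 0 < Nat.card (Sylow 5 D) := Nat.card_pos
      unfold Nat.ModEq at hnmod
      interval_cases Nat.card (Sylow 5 D) <;> omega
    · exact h'
  have hm6 : 6 ≤ m := hn6.trans (Nat.le_of_dvd (Nat.pos_of_ne_zero hm0) hndvd)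
  have hidx : D.relIndex C ≤ 2 := by
    have e := (D.subgroupOf C).card_mul_index
    rw [Nat.card_congr (Subgroup.subgroupOfEquivOfLe (inf_le_right : D ≤ C)).toEquiv, hm] at e
    have := d.cent_line i
    rw [← hC] at this
    by_contra h3
    have h3' : 3 ≤ (D.subgroupOf C).index := by
      rw [Subgroup.relIndex] at h3; omega
    have := Nat.mul_le_mul (Nat.mul_le_mul (le_refl 25) hm6) h3'
    omega
  have hgD : ∀ g ∈ d.gens i, g ∈ D := fun g hg => by
    have hx : (⟨g, hgen g hg⟩ : C) ^ 15 = 1 := Subtype.ext (d.gens_odd i g hg)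
    have hne : (D.subgroupOf C).index ≠ 0 := Subgroup.index_ne_zero_of_finite
    rw [Subgroup.relIndex] at hidx
    rcases (show (D.subgroupOf C).index = 1 ∨ (D.subgroupOf C).index = 2 by omega) with e | e
    · have : (⟨g, hgen g hg⟩ : C) ∈ D.subgroupOf C := (Subgroup.index_eq_one.mp e).symm ▸ Subgroup.mem_top _
      exact this
    · haveI := Subgroup.normal_of_index_eq_two e
      have h2 : (QuotientGroup.mk' (D.subgroupOf C) ⟨g, hgen g hg⟩) ^ 15 = 1 := by rw [← map_pow, hx, map_one]
      have h3 : (QuotientGroup.mk' (D.subgroupOf C) ⟨g, hgen g hg⟩) ^ 2 = 1 := by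
        have := pow_card_eq_one' (G := C ⧸ D.subgroupOf C) (x := QuotientGroup.mk' (D.subgroupOf C) ⟨g, hgen g hg⟩)
        rwa [← Subgroup.index_eq_card, e] at this
      have h4 := pow_gcd_eq_one.mpr ⟨h2, h3⟩
      rw [show Nat.gcd 15 2 = 1 by norm_num, pow_one] at h4
      exact (QuotientGroup.eq_one_iff (N := D.subgroupOf C) _).mp h4
  refine ⟨fun g hg => (hgD g hg).1, ?_⟩
  -- exactly six
  have h3 : 3 ∣ m := by
    obtain ⟨g, hg, ho⟩ := d.gens_three i
    have h3' := orderOf_dvd_natCard (⟨g, hgD g hg⟩ : D)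
    rw [Subgroup.orderOf_mk, ho, hm] at h3'
    exact (Nat.Coprime.dvd_of_dvd_mul_left (by norm_num) h3')
  have hn : Nat.card (Sylow 5 D) = 6 := by
    have hle := Nat.le_of_dvd (Nat.pos_of_ne_zero hm0) hndvd
    unfold Nat.ModEq at hnmod
    rcases (show Nat.card (Sylow 5 D) = 6 ∨ Nat.card (Sylow 5 D) = 11 by omega) with e | e
    · exact e
    · exfalso
      rw [e] at hndvd hle
      obtain ⟨q, rfl⟩ := hndvd
      omega
  refine Eq.trans ?_ hn
  have hlD : d.line i ∈ D := hPD (d.line_mem i)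
  have hall : ∀ S : Sylow 5 D, (⟨d.line i, hlD⟩ : D) ∈ (S : Subgroup D) := by
    intro S
    have hN : (Subgroup.zpowers (⟨d.line i, hlD⟩ : D)).Normal := by
      refine ⟨fun n hn g => ?_⟩
      have hc : g * n = n * g := by
        obtain ⟨t, rfl⟩ := Subgroup.mem_zpowers_iff.mp hn
        refine (Commute.zpow_right ?_ t).eq
        exact Subtype.ext (Subgroup.mem_centralizer_singleton_iff.mp g.2.2)
      rw [hc, mul_inv_cancel_right]
      exact hn
    have hp : IsPGroup 5 (Subgroup.zpowers (⟨d.line i, hlD⟩ : D)) :=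
      IsPGroup.of_card (n := 1) (by rw [Nat.card_zpowers, Subgroup.orderOf_mk, d.line_order, pow_one])
    exact hp.le_sylow_of_normal S (Subgroup.mem_zpowers _)
  refine (Nat.card_congr
    { toFun := fun (S : Sylow 5 D) => (⟨(S : Subgroup D).map D.subtype, ⟨(Subgroup.map_subtype_le _).trans inf_le_left,
        (Subgroup.card_map_of_injective D.subtype_injective).trans (hsyl S)⟩,
        ⟨⟨d.line i, hlD⟩, hall S, rfl⟩⟩ : {Q : Subgroup G | Q ∈ sub25 M ∧ d.line i ∈ Q})
      invFun := fun R => syl R.1 (le_inf R.2.1.1 (hinC R.2.1.2 R.2.2)) R.2.1.2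
      left_inv := fun S => Sylow.ext (Subgroup.comap_map_eq_self_of_injective D.subtype_injective _)
      right_inv := fun R => Subtype.ext (Subgroup.map_subgroupOf_eq_of_le
        (le_inf R.2.1.1 (hinC R.2.1.2 R.2.2) : R.1 ≤ D)) }).symm

/-- The action of a permutation of the subgroup on the coordinates. -/
noncomputable def coordHom (φ : MulAut d.P) : (Fin 2 → ZMod 5) →+ (Fin 2 → ZMod 5) :=
  MonoidHom.toAdditive ((d.coord.symm.toMonoidHom.comp φ.toMonoidHom).comp d.coord.toMonoidHom)

theorem coordHom_apply (φ : MulAut d.P) (v : Fin 2 → ZMod 5) :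
    d.coordHom φ v = Multiplicative.toAdd (d.coord.symm (φ (d.coord (Multiplicative.ofAdd v)))) := rfl

/-- The matrices of the automorphisms. -/
noncomputable def matHom : MulAut d.P →* Matrix (Fin 2) (Fin 2) (ZMod 5) where
  toFun φ := LinearMap.toMatrix' ((d.coordHom φ).toZModLinearMap 5)
  map_one' := by
    rw [← LinearMap.toMatrix'_id]
    refine congrArg _ (LinearMap.ext fun v => ?_)
    simp [coordHom_apply]
  map_mul' φ ψ := by
    rw [← LinearMap.toMatrix'_comp]
    refine congrArg _ (LinearMap.ext fun v => ?_)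
    simp [coordHom_apply]

/-- The automorphisms as invertible matrices. -/
noncomputable def glHom : MulAut d.P →* GL (Fin 2) (ZMod 5) := d.matHom.toHomUnits

theorem glHom_apply (φ : MulAut d.P) (v : Fin 2 → ZMod 5) :
    (d.glHom φ : Matrix (Fin 2) (Fin 2) (ZMod 5)) *ᵥ v = d.coordHom φ v := by
  show LinearMap.toMatrix' ((d.coordHom φ).toZModLinearMap 5) *ᵥ v = _
  rw [LinearMap.toMatrix'_mulVec]
  rfl

theorem glHom_injective : Function.Injective d.glHom := by
  intro φ ψ h
  refine MulEquiv.ext fun p => ?_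
  obtain ⟨v, rfl⟩ := d.coord.surjective p
  have e : d.coordHom φ (Multiplicative.toAdd v) = d.coordHom ψ (Multiplicative.toAdd v) := by
    rw [← glHom_apply, ← glHom_apply, h]
  simpa [coordHom_apply] using e

/-- Conjugation by the normaliser. -/
noncomputable def conjP (M : Subgroup G) : ↥(M ⊓ Subgroup.normalizer (d.P : Set G)) →* MulAut d.P where
  toFun g :=
    { toFun := fun p => ⟨g.1 * p.1 * g.1⁻¹, (Subgroup.mem_normalizer_iff.mp g.2.2 p.1).mp p.2⟩
      invFun := fun p => ⟨g.1⁻¹ * p.1 * g.1, (Subgroup.mem_normalizer_iff.mp g.2.2 _).mpr (by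
        simp [mul_assoc])⟩
      left_inv := fun p => Subtype.ext (by simp [mul_assoc])
      right_inv := fun p => Subtype.ext (by simp [mul_assoc])
      map_mul' := fun p q => Subtype.ext (by simp [mul_assoc]) }
  map_one' := MulEquiv.ext fun p => Subtype.ext (by simp)
  map_mul' g h := MulEquiv.ext fun p => Subtype.ext (by simp [mul_assoc])

theorem conjP_apply (M : Subgroup G) (g : ↥(M ⊓ Subgroup.normalizer (d.P : Set G))) (p : d.P) :
    (d.conjP M g p : G) = g.1 * p.1 * g.1⁻¹ := rfl

variable {M : Subgroup G}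

theorem card_normalizer (hP : d.P ≤ M) :
    Nat.card ↥(M ⊓ Subgroup.normalizer (d.P : Set G)) = 25 * Nat.card (d.glHom.comp (d.conjP M)).range := by
  set N := M ⊓ Subgroup.normalizer (d.P : Set G)
  set ψ := d.glHom.comp (d.conjP M)
  have hPN : d.P ≤ N := le_inf hP Subgroup.le_normalizer
  have hker : ψ.ker = d.P.subgroupOf N := by
    ext g
    rw [MonoidHom.mem_ker, Subgroup.mem_subgroupOf, MonoidHom.comp_apply, ← map_one d.glHom,
      d.glHom_injective.eq_iff]
    constructor
    · intro h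
      refine d.cent_P _ fun p hp => ?_
      have := congrArg (fun φ : MulAut d.P => (φ ⟨p, hp⟩ : G)) h
      simp only [conjP_apply, MulAut.one_apply] at this
      rw [mul_inv_eq_iff_eq_mul] at this
      exact this
    · intro h
      refine MulEquiv.ext fun p => Subtype.ext ?_
      rw [conjP_apply, comm_of_card25 d.card_P _ h _ p.2, mul_inv_cancel_right]
      rfl
  rw [← ψ.ker.card_mul_index, Subgroup.index_ker, hker,
    Nat.card_congr (Subgroup.subgroupOfEquivOfLe hPN).toEquiv, d.card_P]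

theorem card_sylow (hM : Nat.card M = 604800) (hP : d.P ≤ M) :
    Nat.card (d.glHom.comp (d.conjP M)).range * Nat.card (sub25 M) = 24192 := by
  let PS : Sylow 5 M := Sylow.ofCard (d.P.subgroupOf M) (by
    rw [Nat.card_congr (Subgroup.subgroupOfEquivOfLe hP).toEquiv, d.card_P, hM, fac_five]; norm_num)
  rw [card_sub25 M hM PS, Sylow.card_eq_index_normalizer PS]
  have hN : Subgroup.normalizer ((PS : Subgroup M) : Set M) =
      (M ⊓ Subgroup.normalizer (d.P : Set G)).subgroupOf M := by
    ext g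
    rw [Subgroup.mem_subgroupOf, Subgroup.mem_inf, Subgroup.mem_normalizer_iff, Subgroup.mem_normalizer_iff]
    constructor
    · refine fun h => ⟨g.2, fun p => ⟨fun hp => ?_, fun hp => ?_⟩⟩
      · exact (h ⟨p, hP hp⟩).mp hp
      · have hpM : p ∈ M := by
          have := mul_mem (mul_mem (inv_mem g.2) (hP hp)) g.2
          simpa [mul_assoc] using this
        exact (h ⟨p, hpM⟩).mpr hp
    · exact fun h p => h.2 p.1
  rw [show Subgroup.normalizer ((PS : Set M)) = (M ⊓ Subgroup.normalizer (d.P : Set G)).subgroupOf M from hN]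
  have e := ((M ⊓ Subgroup.normalizer (d.P : Set G)).subgroupOf M).card_mul_index
  rw [Nat.card_congr (Subgroup.subgroupOfEquivOfLe inf_le_left).toEquiv, hM, d.card_normalizer hP,
    mul_assoc] at e
  omega

/-- The subgroups meeting `P` trivially come in orbits of length 25. -/
theorem dvd_card_far (hM : Nat.card M = 604800) (hP : d.P ≤ M) :
    25 ∣ Nat.card {Q : Subgroup G // Q ∈ sub25 M ∧ ∀ i, d.line i ∉ Q} := by
  classical
  let X := {Q : Subgroup G // Q ∈ sub25 M ∧ ∀ i, d.line i ∉ Q}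
  have hconj : ∀ (p : d.P) (Q : X), Q.1.map (MulAut.conj p.1).toMonoidHom ∈ sub25 M ∧
      ∀ i, d.line i ∉ Q.1.map (MulAut.conj p.1).toMonoidHom := by
    intro p Q
    refine ⟨⟨?_, (Subgroup.card_map_of_injective (MulEquiv.injective _)).trans Q.2.1.2⟩, fun i hi => ?_⟩
    · rintro _ ⟨q, hq, rfl⟩
      exact mul_mem (mul_mem (hP p.2) (Q.2.1.1 hq)) (inv_mem (hP p.2))
    · obtain ⟨q, hq, e⟩ := hi
      replace e : p.1 * q * p.1⁻¹ = d.line i := e
      have : q = d.line i := by
        have hc := comm_of_card25 d.card_P _ p.2 _ (d.line_mem i)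
        rw [mul_inv_eq_iff_eq_mul, ← hc] at e
        exact mul_left_cancel e
      exact Q.2.2 i (this ▸ hq)
  letI : MulAction d.P X :=
    { smul := fun p Q => ⟨Q.1.map (MulAut.conj p.1).toMonoidHom, hconj p Q⟩
      one_smul := fun Q => Subtype.ext (by
        show Q.1.map (MulAut.conj (1 : G)).toMonoidHom = Q.1
        rw [map_one]; exact Subgroup.map_id _)
      mul_smul := fun p q Q => Subtype.ext (by
        show Q.1.map (MulAut.conj (p.1 * q.1)).toMonoidHom =
          (Q.1.map (MulAut.conj q.1).toMonoidHom).map (MulAut.conj p.1).toMonoidHom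
        rw [Subgroup.map_map, map_mul]; rfl) }
  have hfree : ∀ Q : X, MulAction.stabilizer d.P Q = ⊥ := by
    intro Q
    rw [Subgroup.eq_bot_iff_forall]
    intro p hp
    by_contra hp1
    have hne : (p : G) ≠ 1 := fun h => hp1 (Subtype.ext h)
    obtain ⟨i, hi⟩ := (d.line_cover p p.2).resolve_left hne
    have e : Q.1.map (MulAut.conj p.1).toMonoidHom = Q.1 := congrArg Subtype.val hp
    let QS : Sylow 5 M := Sylow.ofCard (Q.1.subgroupOf M) (by
      rw [Nat.card_congr (Subgroup.subgroupOfEquivOfLe Q.2.1.1).toEquiv, Q.2.1.2, hM, fac_five]; norm_num)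
    set z : M := ⟨p, hP p.2⟩
    have hz : IsPGroup 5 (Subgroup.zpowers z) := by
      refine IsPGroup.of_card (n := 1) ?_
      rw [Nat.card_zpowers, Subgroup.orderOf_mk, pow_one]
      have hd := orderOf_dvd_of_mem_zpowers hi
      rw [d.line_order] at hd
      exact ((Nat.dvd_prime (by norm_num)).mp hd).resolve_left fun h => hne (orderOf_eq_one_iff.mp h)
    have hn : z ∈ Subgroup.normalizer ((QS : Subgroup M) : Set M) := by
      rw [Subgroup.mem_normalizer_iff]
      intro q
      show (q : G) ∈ Q.1 ↔ p.1 * q.1 * p.1⁻¹ ∈ Q.1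
      constructor
      · exact fun h => e ▸ ⟨q.1, h, rfl⟩
      · intro h
        rw [← e] at h
        obtain ⟨q', hq', e'⟩ := h
        have : q' = q.1 := (MulAut.conj p.1).injective e'
        exact this ▸ hq'
    have hzQ : z ∈ Subgroup.zpowers z ⊓ (QS : Subgroup M) :=
      hz.inf_normalizer_sylow QS ▸ Subgroup.mem_inf.mpr ⟨Subgroup.mem_zpowers z, hn⟩
    have hpQ : (p : G) ∈ Q.1 := hzQ.2
    have : d.line i ∈ Subgroup.zpowers (p : G) := by
      rw [zpowers_five (d.line_order i) hi hne]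
      exact Subgroup.mem_zpowers _
    exact Q.2.2 i ((Subgroup.zpowers_le.mpr hpQ) this)
  have horb : ∀ Q : X, Nat.card (MulAction.orbit d.P Q) = 25 := by
    intro Q
    rw [Nat.card_congr (MulAction.orbitEquivQuotientStabilizer d.P Q), hfree, ← Subgroup.index_eq_card,
      Subgroup.index_bot, d.card_P]
  haveI : Fintype (Quotient (MulAction.orbitRel d.P X)) := Fintype.ofFinite _
  show 25 ∣ Nat.card X
  rw [Nat.card_congr (MulAction.selfEquivSigmaOrbits' d.P X), Nat.card_sigma]
  refine Finset.dvd_sum fun ω _ => ?_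
  induction ω using Quotient.inductionOn' with
  | h Q => rw [MulAction.orbitRel.Quotient.orbit_mk, horb]

theorem count (hM : Nat.card M = 604800) (hP : d.P ≤ M) [DecidablePred (d.Full M)] :
    ∃ e, Nat.card (sub25 M) = 1 + 5 * (Finset.univ.filter (d.Full M)).card + 25 * e := by
  classical
  set S := (Set.toFinite (sub25 M)).toFinset with hS
  have hmem : ∀ Q, Q ∈ S ↔ Q ∈ sub25 M := fun Q => Set.Finite.mem_toFinset _
  have hPS : d.P ∈ S := (hmem _).mpr ⟨hP, d.card_P⟩
  set A : Fin 6 → Finset (Subgroup G) := fun i => (S.erase d.P).filter fun Q => d.line i ∈ Q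
  set B := (S.erase d.P).filter fun Q => ∀ i, d.line i ∉ Q
  have hAB : S.erase d.P = Finset.univ.biUnion A ∪ B := by
    ext Q
    simp only [A, B, Finset.mem_union, Finset.mem_biUnion, Finset.mem_univ, true_and, Finset.mem_filter]
    by_cases h : ∃ i, d.line i ∈ Q
    · obtain ⟨i, hi⟩ := h
      exact ⟨fun hQ => Or.inl ⟨i, hQ, hi⟩, fun h => h.elim (fun ⟨_, hQ, _⟩ => hQ) And.left⟩
    · push Not at h
      exact ⟨fun hQ => Or.inr ⟨hQ, h⟩, fun h => h.elim (fun ⟨_, hQ, _⟩ => hQ) And.left⟩
  have hdisj : ∀ i j, i ≠ j → Disjoint (A i) (A j) := fun i j hij => Finset.disjoint_left.mpr fun Q hi hj => by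
    simp only [A, Finset.mem_filter, Finset.mem_erase, hmem] at hi hj
    have := d.line_inf hi.1.2.2 hi.1.1 hj.2
    have h2 : d.line i ∈ Q ⊓ d.P := ⟨hi.2, d.line_mem i⟩
    exact hij (d.line_inj i j (this ▸ h2))
  have hdisj' : Disjoint (Finset.univ.biUnion A) B := Finset.disjoint_left.mpr fun Q h1 h2 => by
    simp only [A, B, Finset.mem_biUnion, Finset.mem_filter] at h1 h2
    obtain ⟨i, -, -, hi⟩ := h1
    exact h2.2 i hi
  have hA : ∀ i, (A i).card = if d.Full M i then 5 else 0 := by
    intro i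
    split
    · rename_i h
      obtain ⟨-, h6⟩ := d.full_facts hM hP h
      rw [← Set.ncard_coe_finset]
      have e : ((A i : Finset (Subgroup G)) : Set (Subgroup G)) = {Q | Q ∈ sub25 M ∧ d.line i ∈ Q} \ {d.P} := by
        ext Q; simp [A, hmem, and_comm, and_assoc]
      rw [e, Set.ncard_sdiff_singleton_of_mem (show d.P ∈ {Q | Q ∈ sub25 M ∧ d.line i ∈ Q} from ⟨⟨hP, d.card_P⟩, d.line_mem i⟩), ← Nat.card_coe_set_eq, h6]
    · rename_i h
      rw [Finset.card_eq_zero, Finset.eq_empty_iff_forall_notMem]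
      intro Q hQ
      simp only [A, Finset.mem_filter, Finset.mem_erase, hmem] at hQ
      exact h ⟨Q, hQ.1.2, hQ.1.1, hQ.2⟩
  have hB : 25 ∣ B.card := by
    have := d.dvd_card_far hM hP
    convert this using 1
    rw [← Nat.card_eq_finsetCard]
    refine Nat.card_congr (Equiv.subtypeEquivRight fun Q => ?_)
    simp only [B, Finset.mem_filter, Finset.mem_erase, hmem]
    exact ⟨fun h => ⟨h.1.2, h.2⟩, fun h => ⟨⟨fun e => h.2 0 (e ▸ d.line_mem 0), h.1⟩, h.2⟩⟩
  obtain ⟨e, he⟩ := hB
  refine ⟨e, ?_⟩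
  rw [Nat.card_coe_set_eq, Set.ncard_eq_toFinset_card _ (Set.toFinite _), ← Finset.card_erase_add_one hPS, hAB,
    Finset.card_union_of_disjoint hdisj', Finset.card_biUnion (fun i _ j _ h => hdisj i j h), he,
    Finset.sum_congr rfl (fun i _ => hA i), ← Finset.sum_filter, Finset.sum_const, smul_eq_mul]
  ring

/-- At least three lines are full. -/
theorem three_full (hM : Nat.card M = 604800) (hP : d.P ≤ M) :
    ∃ S : Finset (Fin 6), 3 ≤ S.card ∧ ∀ i ∈ S, ∀ g ∈ d.gens i, g ∈ M := by
  classical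
  refine ⟨Finset.univ.filter (d.Full M), ?_, fun i hi => (d.full_facts hM hP (Finset.mem_filter.mp hi).2).1⟩
  by_contra hlt
  set R := (d.glHom.comp (d.conjP M)).range
  obtain ⟨e, he⟩ := d.count hM hP
  have h1 := d.card_sylow hM hP
  have hk : Nat.card R ∣ 480 := card_gl_two_five ▸ Subgroup.card_subgroup_dvd_card R
  set F := Finset.univ.filter (d.Full M) with hF
  have hsolve : ∀ k ∈ Nat.divisors 480, ∀ f < 3, k * (1 + 5 * f) % 25 = 24192 % 25 → k = 32 ∧ f = 1 := by
    decide +kernel
  have h25 : Nat.card R * (1 + 5 * F.card) % 25 = 24192 % 25 := by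
    rw [← h1, he, show ∀ k f : ℕ, k * (1 + 5 * f + 25 * e) = k * (1 + 5 * f) + 25 * (k * e) from fun k f => by ring,
      Nat.add_mul_mod_self_left]
  obtain ⟨hk32, hf⟩ := hsolve _ (Nat.mem_divisors.mpr ⟨hk, by norm_num⟩) F.card (by omega) h25
  obtain ⟨i, hi⟩ := Finset.card_eq_one.mp hf
  have hfull : d.Full M i := (Finset.mem_filter.mp (show i ∈ F by rw [hi]; simp)).2
  set v := Multiplicative.toAdd (d.coord.symm ⟨d.line i, d.line_mem i⟩) with hv
  have hv0 : v ≠ 0 := fun h => by
    have : d.coord.symm ⟨d.line i, d.line_mem i⟩ = 1 := h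
    rw [map_eq_one_iff _ d.coord.symm.injective] at this
    have := congrArg Subtype.val this
    have ho := d.line_order i
    rw [show d.line i = 1 from this, orderOf_one] at ho
    norm_num at ho
  have := two_group_line R (IsPGroup.of_card (n := 5) (by rw [hk32]; norm_num)) v hv0 (by
    rintro _ ⟨g, rfl⟩
    set p : d.P := d.conjP M g ⟨d.line i, d.line_mem i⟩
    have hp : (p : G) = g.1 * d.line i * g.1⁻¹ := rfl
    have hp1 : (p : G) ≠ 1 := by
      rw [hp, Ne, conj_eq_one_iff]
      intro h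
      have ho := d.line_order i
      rw [h, orderOf_one] at ho
      norm_num at ho
    obtain ⟨j, hj⟩ := (d.line_cover p p.2).resolve_left hp1
    obtain ⟨Q, hQ, hne, hiQ⟩ := hfull
    have hjF : d.Full M j := by
      refine ⟨Q.map (MulAut.conj g.1).toMonoidHom, ⟨?_, (Subgroup.card_map_of_injective (MulEquiv.injective _)).trans
        hQ.2⟩, ?_, ?_⟩
      · rintro _ ⟨q, hq, rfl⟩
        exact mul_mem (mul_mem g.2.1 (hQ.1 hq)) (inv_mem g.2.1)
      · intro h
        apply hne
        refine Subgroup.map_injective (f := (MulAut.conj g.1).toMonoidHom) (MulEquiv.injective _) (h.trans ?_)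
        ext x
        rw [Subgroup.mem_map_equiv, MulAut.conj_symm_apply]
        have := Subgroup.mem_normalizer_iff.mp g.2.2 (g.1⁻¹ * x * g.1)
        rw [this]; simp [mul_assoc]
      · have hjp : d.line j ∈ Subgroup.zpowers (p : G) := by
          rw [zpowers_five (d.line_order j) hj hp1]
          exact Subgroup.mem_zpowers _
        exact (Subgroup.zpowers_le.mpr (⟨_, hiQ, hp.symm⟩ : (p : G) ∈ Q.map (MulAut.conj g.1).toMonoidHom)) hjp
    have hji : j = i := by
      have : j ∈ F := Finset.mem_filter.mpr ⟨Finset.mem_univ _, hjF⟩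
      rwa [hi, Finset.mem_singleton] at this
    subst hji
    obtain ⟨t, ht⟩ := Subgroup.mem_zpowers_iff.mp hj
    refine ⟨(t : ZMod 5), ?_⟩
    rw [MonoidHom.comp_apply, glHom_apply, coordHom_apply, hv, ofAdd_toAdd, MulEquiv.apply_symm_apply,
      show d.conjP M g ⟨d.line j, d.line_mem j⟩ = (⟨d.line j, d.line_mem j⟩ : d.P) ^ t from
        Subtype.ext ht.symm, map_zpow, toAdd_zpow, Int.cast_smul_eq_zsmul])
  omega

end FiveData

end CfsgLib.SuzRecog
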