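/-
The subgroups of index 416 of the point stabiliser in the Suzuki group are the stabilisers of points.
-/
import Cfsg.Agent.Lib.SuzRecog.Cand
import Cfsg.Agent.Lib.SuzRecog.SylowFive
import Cfsg.Agent.Lib.SuzRecog.IndexData

set_option autoImplicit false
set_option maxRecDepth 100000
set_option linter.style.haveILetI false

namespace CfsgLib.SuzRecog

open CfsgLib.CosetEnum CfsgLib.SuzOut

/-- The point stabiliser as a group. -/
abbrev Hg : Type := ↥Hs

/-- The element of the point stabiliser of a word. -/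
noncomputable def hel (w : List ℕ) : Hg := if h : okH w = true then ⟨el w, el_mem_Hs h⟩ else 1

theorem hel_val {w : List ℕ} (h : okH w = true) : (hel w : presSuz.Grp) = el w := by
  rw [hel, dif_pos h]

theorem hel_pow {w : List ℕ} (h : okH w = true) (n : ℕ) : ((hel w ^ n : Hg) : presSuz.Grp) = el (powW w n) := by
  rw [SubmonoidClass.coe_pow, hel_val h, el_powW]

/-- The word of an exponent pair. -/
def pairW (a b : ℕ) : List ℕ := powW yW b ++ powW xW a

theorem xy_ok : (okH xW && okH yW && sameEl (powW xW 5) [] && sameEl (powW yW 5) [] &&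
    sameEl (xW ++ yW) (yW ++ xW) &&
    ((List.range 5).all fun a => (List.range 5).all fun b =>
      (Nat.beq a 0 && Nat.beq b 0) || !(sameEl (pairW a b) []))) = true := by decide +kernel

theorem okx : okH xW = true := by
  have h := xy_ok; simp only [Bool.and_eq_true] at h; exact h.1.1.1.1.1

theorem oky : okH yW = true := by
  have h := xy_ok; simp only [Bool.and_eq_true] at h; exact h.1.1.1.1.2

/-- The first generator. -/
noncomputable def X₅ : Hg := hel xW

/-- The second generator. -/
noncomputable def Y₅ : Hg := hel yW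

theorem X₅_pow : X₅ ^ 5 = 1 := Subtype.ext (by
  have h := xy_ok; simp only [Bool.and_eq_true] at h
  rw [X₅, hel_pow okx, OneMemClass.coe_one, ← el_nil, el_eq h.1.1.1.2])

theorem Y₅_pow : Y₅ ^ 5 = 1 := Subtype.ext (by
  have h := xy_ok; simp only [Bool.and_eq_true] at h
  rw [Y₅, hel_pow oky, OneMemClass.coe_one, ← el_nil, el_eq h.1.1.2])

theorem XY₅ : Commute X₅ Y₅ := Subtype.ext (by
  have h := xy_ok; simp only [Bool.and_eq_true] at h
  show (X₅ : presSuz.Grp) * (Y₅ : presSuz.Grp) = (Y₅ : presSuz.Grp) * (X₅ : presSuz.Grp)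
  rw [X₅, Y₅, hel_val okx, hel_val oky, el_mul, el_mul]
  exact (el_eq h.1.2).symm)

theorem val_pair (a b : ℕ) : ((X₅ ^ a * Y₅ ^ b : Hg) : presSuz.Grp) = el (pairW a b) := by
  rw [Subgroup.coe_mul, X₅, Y₅, hel_pow okx, hel_pow oky, el_mul]; rfl

/-- The coordinates of the subgroup of order 25. -/
noncomputable def coordP : Multiplicative (Fin 2 → ZMod 5) →* Hg where
  toFun v := X₅ ^ (Multiplicative.toAdd v 0).val * Y₅ ^ (Multiplicative.toAdd v 1).val
  map_one' := by simp
  map_mul' v w := by
    simp only [toAdd_mul, Pi.add_apply, ZMod.val_add]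
    rw [← pow_eq_pow_mod _ X₅_pow, ← pow_eq_pow_mod _ Y₅_pow, pow_add, pow_add, mul_assoc, mul_assoc,
      ← mul_assoc (X₅ ^ (Multiplicative.toAdd w 0).val), (XY₅.pow_pow _ _).eq, mul_assoc]

theorem pair_mem (a b : ℕ) : X₅ ^ a * Y₅ ^ b ∈ coordP.range := by
  refine ⟨Multiplicative.ofAdd ![(a : ZMod 5), (b : ZMod 5)], ?_⟩
  show X₅ ^ (a : ZMod 5).val * Y₅ ^ (b : ZMod 5).val = _
  rw [ZMod.val_natCast, ZMod.val_natCast, ← pow_eq_pow_mod _ X₅_pow, ← pow_eq_pow_mod _ Y₅_pow]

theorem coordP_injective : Function.Injective coordP := by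
  rw [injective_iff_map_eq_one]
  intro v hv
  have h := xy_ok
  simp only [Bool.and_eq_true, List.all_eq_true, List.mem_range, Bool.or_eq_true, Bool.not_eq_true'] at h
  have h2 := congrArg Subtype.val hv
  rw [OneMemClass.coe_one] at h2
  rw [show coordP v = X₅ ^ (Multiplicative.toAdd v 0).val * Y₅ ^ (Multiplicative.toAdd v 1).val from rfl,
    val_pair] at h2
  rcases h.2 _ (ZMod.val_lt (Multiplicative.toAdd v 0)) _ (ZMod.val_lt (Multiplicative.toAdd v 1)) with ⟨e0, e1⟩ | hne
  · have e0' := (ZMod.val_eq_zero _).mp (Nat.eq_of_beq_eq_true e0)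
    have e1' := (ZMod.val_eq_zero _).mp (Nat.eq_of_beq_eq_true e1)
    refine (Multiplicative.toAdd : _ ≃ (Fin 2 → ZMod 5)).injective (funext fun i => ?_)
    fin_cases i
    · exact e0'
    · exact e1'
  · have hok : okWord (pairW (Multiplicative.toAdd v 0).val (Multiplicative.toAdd v 1).val) = true := by
      have hx := okx; have hy := oky
      simp only [okH, Bool.and_eq_true] at hx hy
      exact okWord_append (okWord_powW' hy.1 _) (okWord_powW' hx.1 _)
    exact absurd h2 (el_ne hok rfl hne)
where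
  okWord_powW' {w : List ℕ} (hw : okWord w = true) : ∀ n, okWord (powW w n) = true
    | 0 => rfl
    | n + 1 => okWord_append (okWord_powW' hw n) hw

/-- The word of a line. -/
noncomputable abbrev lineW (i : ℕ) : List ℕ := lineWs.getD i []

/-- The words centralising a line. -/
noncomputable abbrev gensW (i : ℕ) : List (List ℕ) := gensWs.getD i []

/-- The checks of the lines. -/
noncomputable def lineOK (i : ℕ) : Bool :=
  okH (lineW i) && sameEl (powW (lineW i) 5) [] && !(sameEl (lineW i) []) &&
    ((List.range 5).any fun a => (List.range 5).any fun b => sameEl (lineW i) (pairW a b)) &&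
    ((gensW i).all fun w => okH w && sameEl (w ++ lineW i) (lineW i ++ w) && sameEl (powW w 15) []) &&
    okH ((gensW i).headD []) && Nat.blt 0 (gensW i).length && sameEl (powW ((gensW i).headD []) 3) [] &&
      !(sameEl ((gensW i).headD []) []) &&
    ((List.range 6).all fun j => Nat.beq i j || (List.range 5).all fun t => !(sameEl (lineW i) (powW (lineW j) t)))

theorem lines_ok : ((List.range 6).all lineOK) = true := by decide +kernel

theorem cover_ok : ((List.range 5).all fun a => (List.range 5).all fun b => (Nat.beq a 0 && Nat.beq b 0) ||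
    ((List.range 6).any fun i => (List.range 5).any fun t => sameEl (pairW a b) (powW (lineW i) t))) = true := by
  decide +kernel

theorem level0_ok : (okLev [lineW 0, lineW 0 ++ lineW 0] [0] (levWs.getD 0 []) &&
    Nat.ble ((levWs.getD 0 []).map Prod.snd).prod 300) = true := by decide +kernel

theorem level1_ok : (okLev [lineW 1, lineW 1 ++ lineW 1] [0] (levWs.getD 1 []) &&
    Nat.ble ((levWs.getD 1 []).map Prod.snd).prod 300) = true := by decide +kernel

theorem level2_ok : (okLev [lineW 2, lineW 2 ++ lineW 2] [0] (levWs.getD 2 []) &&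
    Nat.ble ((levWs.getD 2 []).map Prod.snd).prod 300) = true := by decide +kernel

theorem level3_ok : (okLev [lineW 3, lineW 3 ++ lineW 3] [0] (levWs.getD 3 []) &&
    Nat.ble ((levWs.getD 3 []).map Prod.snd).prod 300) = true := by decide +kernel

theorem level4_ok : (okLev [lineW 4, lineW 4 ++ lineW 4] [0] (levWs.getD 4 []) &&
    Nat.ble ((levWs.getD 4 []).map Prod.snd).prod 300) = true := by decide +kernel

theorem level5_ok : (okLev [lineW 5, lineW 5 ++ lineW 5] [0] (levWs.getD 5 []) &&
    Nat.ble ((levWs.getD 5 []).map Prod.snd).prod 300) = true := by decide +kernel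

theorem levelP_ok : (okLev [xW, xW ++ xW, yW, yW ++ yW] [0] levP &&
    Nat.ble (levP.map Prod.snd).prod 25) = true := by decide +kernel

theorem levels_ok : (((List.range 6).all fun i =>
    okLev [lineW i, lineW i ++ lineW i] [0] (levWs.getD i []) &&
      Nat.ble ((levWs.getD i []).map Prod.snd).prod 300) &&
    okLev [xW, xW ++ xW, yW, yW ++ yW] [0] levP && Nat.ble (levP.map Prod.snd).prod 25) = true := by
  rw [Bool.and_assoc, Bool.and_eq_true, List.all_eq_true]
  refine ⟨fun i hi => ?_, levelP_ok⟩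
  match i, List.mem_range.mp hi with
  | 0, _ => exact level0_ok
  | 1, _ => exact level1_ok
  | 2, _ => exact level2_ok
  | 3, _ => exact level3_ok
  | 4, _ => exact level4_ok
  | 5, _ => exact level5_ok

theorem card_cent_le {W : List (List ℕ)} (hW : ∀ w ∈ W, okWord w = true) {L : List (ℕ × ℕ)}
    (hL : okLev W [0] L = true) (A : Subgroup Hg)
    (hA : ∀ g ∈ A, ∀ w ∈ W, (g : presSuz.Grp) * el w = el w * g) : Nat.card A ≤ (L.map Prod.snd).prod := by
  rw [Nat.card_congr (A.equivMapOfInjective Hs.subtype Subtype.val_injective).toEquiv]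
  refine card_le_lev hW L [0] hL _ ?_
  rintro _ ⟨g, hg, rfl⟩
  refine ⟨hA g hg, fun a ha => ?_⟩
  rw [List.mem_singleton.mp ha]
  exact ⟨by norm_num, mem_Hs.mp g.2⟩

theorem orderOf_hel {w : List ℕ} (h : okH w = true) {p : ℕ} (hp : p.Prime) (h1 : sameEl (powW w p) [] = true)
    (h2 : sameEl w [] = false) : orderOf (hel w) = p := by
  haveI : Fact p.Prime := ⟨hp⟩
  refine orderOf_eq_prime (Subtype.ext (by rw [hel_pow h, OneMemClass.coe_one, ← el_nil, el_eq h1])) fun e => ?_
  have h' := h
  rw [okH, Bool.and_eq_true] at h'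
  have := congrArg Subtype.val e
  rw [hel_val h] at this
  exact el_ne h'.1 rfl h2 this

theorem line_facts (i : Fin 6) : lineOK i = true :=
  List.all_eq_true.mp lines_ok i (List.mem_range.mpr i.2)

theorem line_okH (i : Fin 6) : okH (lineW i) = true := by
  have h := line_facts i; simp only [lineOK, Bool.and_eq_true] at h; exact h.1.1.1.1.1.1.1.1.1

theorem line_comm_iff {g : Hg} {w : List ℕ} (hw : okH w = true) :
    g * hel w = hel w * g ↔ (g : presSuz.Grp) * el w = el w * g := by
  rw [Subtype.ext_iff]; simp [hel_val hw]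

/-- The data of the subgroup of order 25. -/
noncomputable def fiveData : FiveData Hg where
  P := coordP.range
  line i := hel (lineW i)
  gens i := (gensW i).map hel
  coord := MonoidHom.ofInjective coordP_injective
  line_mem i := by
    have h := line_facts i
    simp only [lineOK, Bool.and_eq_true, List.any_eq_true] at h
    obtain ⟨a, -, b, -, hab⟩ := h.1.1.1.1.1.1.2
    have : hel (lineW i) = X₅ ^ a * Y₅ ^ b := Subtype.ext (by rw [hel_val (line_okH i), val_pair, el_eq hab])
    rw [this]
    exact pair_mem a b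
  line_order i := by
    have h := line_facts i
    simp only [lineOK, Bool.and_eq_true, Bool.not_eq_true'] at h
    exact orderOf_hel (line_okH i) (by norm_num) h.1.1.1.1.1.1.1.1.2 h.1.1.1.1.1.1.1.2
  line_inj i j hij := by
    by_contra hne
    have h5 : hel (lineW j) ^ 5 = 1 := Subtype.ext (by
      have hj := line_facts j
      simp only [lineOK, Bool.and_eq_true] at hj
      rw [hel_pow (line_okH j), OneMemClass.coe_one, ← el_nil, el_eq hj.1.1.1.1.1.1.1.1.2])
    obtain ⟨n, hn⟩ := (Subgroup.mem_zpowers_iff).mp hij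
    have e : hel (lineW i) = hel (lineW j) ^ (n % 5).toNat := by
      rw [← hn, ← zpow_natCast, Int.toNat_of_nonneg (Int.emod_nonneg _ (by norm_num))]
      exact zpow_eq_zpow_emod' n h5
    have h := line_facts i
    simp only [lineOK, Bool.and_eq_true, List.all_eq_true, List.mem_range, Bool.or_eq_true, Bool.not_eq_true'] at h
    rcases h.2 j j.2 with e' | e'
    · exact hne (Fin.ext (Nat.eq_of_beq_eq_true e'))
    · have hlt : (n % 5).toNat < 5 := by omega
      have := congrArg Subtype.val e
      rw [hel_val (line_okH i), hel_pow (line_okH j)] at this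
      have hi := line_okH i; have hj := line_okH j
      simp only [okH, Bool.and_eq_true] at hi hj
      exact el_ne hi.1 (coordP_injective.okWord_powW' hj.1 _) (e' _ hlt) this
  line_cover g hg := by
    obtain ⟨v, rfl⟩ := hg
    set a := (Multiplicative.toAdd v 0).val with ha
    set b := (Multiplicative.toAdd v 1).val with hb
    have e : coordP v = X₅ ^ a * Y₅ ^ b := rfl
    have h := cover_ok
    simp only [List.all_eq_true, List.mem_range, Bool.or_eq_true, Bool.and_eq_true, List.any_eq_true] at h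
    rcases h a (ZMod.val_lt _) b (ZMod.val_lt _) with ⟨ha0, hb0⟩ | ⟨i, hi, t, -, ht⟩
    · left
      rw [e, Nat.eq_of_beq_eq_true ha0, Nat.eq_of_beq_eq_true hb0, pow_zero, pow_zero, mul_one]
    · right
      refine ⟨⟨i, hi⟩, ?_⟩
      have : coordP v = hel (lineW i) ^ t := Subtype.ext (by
        rw [e, val_pair, hel_pow (line_okH ⟨i, hi⟩), el_eq ht])
      rw [this]
      exact pow_mem (Subgroup.mem_zpowers _) t
  cent_line i := by
    have h := levels_ok
    simp only [Bool.and_eq_true, List.all_eq_true, List.mem_range, Nat.ble_eq] at h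
    have hl := line_okH i
    simp only [okH, Bool.and_eq_true] at hl
    refine (card_cent_le (W := [lineW i, lineW i ++ lineW i]) ?_ (h.1.1 i i.2).1 _ ?_).trans (h.1.1 i i.2).2
    · intro w hw
      simp only [List.mem_cons, List.not_mem_nil, or_false] at hw
      rcases hw with rfl | rfl
      exacts [hl.1, okWord_append hl.1 hl.1]
    · intro g hg w hw
      have hc : Commute (g : presSuz.Grp) (el (lineW i)) :=
        (line_comm_iff (line_okH i)).mp (Subgroup.mem_centralizer_singleton_iff.mp hg)
      simp only [List.mem_cons, List.not_mem_nil, or_false] at hw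
      rcases hw with rfl | rfl
      · exact hc.eq
      · rw [el_append]; exact (hc.mul_right hc).eq
  gens_comm i g hg := by
    obtain ⟨w, hw, rfl⟩ := List.mem_map.mp hg
    have h := line_facts i
    simp only [lineOK, Bool.and_eq_true, List.all_eq_true] at h
    obtain ⟨⟨hw1, hw2⟩, -⟩ := h.1.1.1.1.1.2 w hw
    rw [line_comm_iff (line_okH i), hel_val hw1, el_mul, el_mul]
    exact (el_eq hw2).symm
  gens_odd i g hg := by
    obtain ⟨w, hw, rfl⟩ := List.mem_map.mp hg
    have h := line_facts i
    simp only [lineOK, Bool.and_eq_true, List.all_eq_true] at h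
    obtain ⟨⟨hw1, -⟩, hw2⟩ := h.1.1.1.1.1.2 w hw
    exact Subtype.ext (by rw [hel_pow hw1, OneMemClass.coe_one, ← el_nil, el_eq hw2])
  gens_three i := by
    have h := line_facts i
    simp only [lineOK, Bool.and_eq_true, Bool.not_eq_true', blt_iff] at h
    refine ⟨hel ((gensW i).headD []), List.mem_map.mpr ⟨_, ?_, rfl⟩,
      orderOf_hel h.1.1.1.1.2 (by norm_num) h.1.1.2 h.1.2⟩
    cases hg : gensW i with
    | nil => rw [hg] at h; exact absurd h.1.1.1.2 (by simp)
    | cons a l => simp
  cent_P g hg := by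
    have h := levels_ok
    simp only [Bool.and_eq_true, List.all_eq_true, Nat.ble_eq] at h
    set A := Subgroup.centralizer (coordP.range : Set Hg) with hA
    have hle : Nat.card A ≤ 25 := by
      refine (card_cent_le (W := [xW, xW ++ xW, yW, yW ++ yW]) ?_ h.1.2 _ ?_).trans h.2
      · have hx := okx; have hy := oky
        simp only [okH, Bool.and_eq_true] at hx hy
        intro w hw
        simp only [List.mem_cons, List.not_mem_nil, or_false] at hw
        rcases hw with rfl | rfl | rfl | rfl
        exacts [hx.1, okWord_append hx.1 hx.1, hy.1, okWord_append hy.1 hy.1]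
      · intro k hk w hw
        have h1 : Commute (k : presSuz.Grp) (el xW) := (line_comm_iff okx).mp
          (Subgroup.mem_centralizer_iff.mp hk X₅ (by simpa using pair_mem 1 0)).symm
        have h2 : Commute (k : presSuz.Grp) (el yW) := (line_comm_iff oky).mp
          (Subgroup.mem_centralizer_iff.mp hk Y₅ (by simpa using pair_mem 0 1)).symm
        simp only [List.mem_cons, List.not_mem_nil, or_false] at hw
        rcases hw with rfl | rfl | rfl | rfl
        · exact h1.eq
        · rw [el_append]; exact (h1.mul_right h1).eq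
        · exact h2.eq
        · rw [el_append]; exact (h2.mul_right h2).eq
    have hc : Nat.card coordP.range = 25 := by
      rw [← Nat.card_congr (MonoidHom.ofInjective coordP_injective).toEquiv,
        Nat.card_congr Multiplicative.toAdd, Nat.card_fun]
      simp
    have hsub : coordP.range ≤ A := by
      rintro _ ⟨v, rfl⟩
      rw [hA, Subgroup.mem_centralizer_iff]
      rintro _ ⟨w, rfl⟩
      rw [← map_mul, ← map_mul, mul_comm]
    rw [Subgroup.eq_of_le_of_card_ge hsub (by omega), hA, Subgroup.mem_centralizer_iff]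
    exact fun p hp => (hg p hp).symm

/-- The orbit labels of the stabiliser of 47. -/
noncomputable abbrev jLab (d : ℕ) : ℕ := orbLab jOrb d

/-- The words generating a pair of centralisers. -/
noncomputable def pairGens (i j : ℕ) : List (List ℕ) :=
  let g := [xW, yW] ++ gensW i ++ gensW j
  g ++ g.map List.reverse

/-- The word of a product of the generators of a pair. -/
noncomputable def pairWord (i j : ℕ) (p : List ℕ) : List ℕ := p.flatMap fun a => (pairGens i j).getD a []

theorem pairs_ok : ((longPairs.all fun t => okH (pairWord t.1 t.2.1 t.2.2) &&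
      sameEl (powW (pairWord t.1 t.2.1 t.2.2) 13) [] && !(sameEl (pairWord t.1 t.2.1 t.2.2) []) &&
      t.2.2.all fun a => Nat.blt a (pairGens t.1 t.2.1).length) &&
    (shortPairs.all fun t => Nat.beq t.2.2.length jW.length && (List.range jW.length).all fun k =>
      sameEl (pairWord t.1 t.2.1 (t.2.2.getD k [])) (jW.getD k []) &&
      (t.2.2.getD k []).all fun a => Nat.blt a (pairGens t.1 t.2.1).length) &&
    ((List.range 6).all fun i => (List.range 6).all fun j => (pairGens i j).all okH)) = true := by decide +kernel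

theorem pairs_cover : ∀ S : Finset (Fin 6), 3 ≤ S.card →
    (∃ t ∈ ([(0, 2), (0, 3), (2, 3)] : List (Fin 6 × Fin 6)), t.1 ∈ S ∧ t.2 ∈ S) ∨
      ∃ t ∈ ([(1, 4), (1, 5), (4, 5)] : List (Fin 6 × Fin 6)), t.1 ∈ S ∧ t.2 ∈ S := by decide +kernel

theorem j_ok : (okOrbs Suz1782.table 7 jW jOrb jRoots 0 1782 &&
    (jW.all fun w => okH w && Nat.beq (run1 w 47) 47) &&
    Nat.beq (lab 47) 2 && Nat.beq (jLab 47) 3 && Nat.beq (countLab jOrb 3 1782) 1 &&
    Nat.beq (countLab jOrb 4 1782) 315 && Nat.beq (countLab jOrb 5 1782) 100 &&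
    allN 1782 (fun d => force d fun d => (Nat.beq (lab d) 2) ==
      (Nat.beq (jLab d) 3 || Nat.beq (jLab d) 4 || Nat.beq (jLab d) 5))) = true := by decide +kernel

theorem pairWord_mem {M : Subgroup Hg} (hX : X₅ ∈ M) (hY : Y₅ ∈ M) {i j : ℕ} (hi6 : i < 6) (hj6 : j < 6)
    (hi : ∀ g ∈ (gensW i).map hel, g ∈ M) (hj : ∀ g ∈ (gensW j).map hel, g ∈ M) :
    ∀ (p : List ℕ), (p.all fun a => Nat.blt a (pairGens i j).length) = true →
      okH (pairWord i j p) = true ∧ hel (pairWord i j p) ∈ M := by
  have hall : ((pairGens i j).all okH) = true := by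
    have h := pairs_ok
    simp only [Bool.and_eq_true, List.all_eq_true, List.mem_range] at h ⊢
    exact h.2 i hi6 j hj6
  have hrev : ∀ w, okH w = true → hel w ∈ M → hel w.reverse ∈ M ∨ okH w.reverse = false := by
    intro w hw hm
    cases hr : okH w.reverse with
    | false => exact Or.inr rfl
    | true =>
      refine Or.inl ?_
      have : hel w.reverse = (hel w)⁻¹ := Subtype.ext (by rw [hel_val hr, Subgroup.coe_inv, hel_val hw, el_inv])
      rw [this]; exact inv_mem hm
  have hgen : ∀ w ∈ pairGens i j, okH w = true ∧ hel w ∈ M := by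
    have hbase : ∀ w ∈ [xW, yW] ++ gensW i ++ gensW j, hel w ∈ M := by
      intro w hw
      simp only [List.mem_append, List.mem_cons, List.not_mem_nil, or_false] at hw
      rcases hw with ((rfl | rfl) | hw) | hw
      exacts [hX, hY, hi _ (List.mem_map_of_mem hw), hj _ (List.mem_map_of_mem hw)]
    intro w hw
    have hok := List.all_eq_true.mp hall w hw
    refine ⟨hok, ?_⟩
    rcases List.mem_append.mp hw with h | h
    · exact hbase w h
    · obtain ⟨v, hv, rfl⟩ := List.mem_map.mp h
      rcases hrev v (List.all_eq_true.mp hall v (List.mem_append_left _ hv)) (hbase v hv) with h' | h'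
      · exact h'
      · rw [hok] at h'; exact absurd h' (by decide)
  intro p
  induction p with
  | nil =>
    intro _
    refine ⟨rfl, ?_⟩
    have : hel (pairWord i j []) = 1 := Subtype.ext (by
      rw [hel_val (w := pairWord i j []) rfl]; exact el_nil)
    rw [this]; exact one_mem _
  | cons a p ih =>
    intro h
    simp only [List.all_cons, Bool.and_eq_true, blt_iff] at h
    obtain ⟨h1, h2⟩ := ih h.2
    obtain ⟨g1, g2⟩ := hgen ((pairGens i j).getD a [])
      (by rw [List.getD_eq_getElem _ _ h.1]; exact List.getElem_mem h.1)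
    have hcons : pairWord i j (a :: p) = (pairGens i j).getD a [] ++ pairWord i j p := rfl
    have hok : okH (pairWord i j (a :: p)) = true := by
      have a1 := g1; have a2 := h1
      simp only [okH, Bool.and_eq_true] at a1 a2
      have hn : (0 : ℕ) < 1782 := by norm_num
      rw [okH, Bool.and_eq_true, hcons]
      refine ⟨okWord_append a1.1 a2.1, ?_⟩
      rw [← pt_el (okWord_append a1.1 a2.1) (lt_n hn), el_append, pt_mul _ _ (lt_n hn), pt_el a1.1 (lt_n hn),
        Nat.eq_of_beq_eq_true a1.2, pt_el a2.1 (lt_n hn), Nat.eq_of_beq_eq_true a2.2]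
      exact Nat.beq_refl 0
    refine ⟨hok, ?_⟩
    have : hel (pairWord i j (a :: p)) = hel (pairWord i j p) * hel ((pairGens i j).getD a []) :=
      Subtype.ext (by rw [Subgroup.coe_mul, hel_val hok, hel_val h1, hel_val g1, hcons, el_append])
    rw [this]
    exact mul_mem h2 g2

theorem count_jLab (l : ℕ) :
    ((Finset.range 1782).filter fun d => jLab d = l).card = countLab jOrb l 1782 := (countLab_eq _ _ _).symm

/-- A subgroup of order 604800 containing the generators is the stabiliser of 47. -/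
theorem eq_stab {M : Subgroup Hg} (hM : Nat.card M = 604800)
    (hj : ∀ w ∈ jW, hel w ∈ M) : ∀ g ∈ M, pt (g : presSuz.Grp) 47 = 47 := by
  classical
  have h := j_ok
  simp only [Bool.and_eq_true, List.all_eq_true] at h
  obtain ⟨⟨⟨⟨⟨⟨⟨horb, hgen⟩, h47⟩, hl47⟩, c3⟩, c4⟩, c5⟩, hlab⟩ := h
  set T := M.map Hs.subtype
  have hT : ∀ w ∈ jW, okWord w = true ∧ el w ∈ T := fun w hw => by
    have hw' := (hgen w hw).1
    exact ⟨by rw [okH, Bool.and_eq_true] at hw'; exact hw'.1, ⟨hel w, hj w hw, hel_val hw'⟩⟩
  have hn : (47 : ℕ) < 1782 := by norm_num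
  set O := (Finset.range 1782).filter fun d => ∃ g ∈ T, pt g 47 = d with hO
  have hmem : ∀ d, d ∈ O ↔ d < 1782 ∧ ∃ g ∈ T, pt g 47 = d := fun d => by simp [O]
  have hlab' : ∀ d ∈ O, jLab d ∈ ({3, 4, 5} : Finset ℕ) := by
    intro d hd
    obtain ⟨hd, g, ⟨g', -, rfl⟩, rfl⟩ := (hmem d).mp hd
    have e := allN_spec hlab _ hd
    rw [force_eq, beq_iff_eq, show lab (pt (Hs.subtype g') 47) = lab 47 from lab_Hs g'.2 hn, h47] at e
    replace e := e.symm
    simp only [Bool.or_eq_true] at e
    simp only [Finset.mem_insert, Finset.mem_singleton]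
    rcases e with (e | e) | e
    exacts [Or.inl (Nat.eq_of_beq_eq_true e), Or.inr (Or.inl (Nat.eq_of_beq_eq_true e)),
      Or.inr (Or.inr (Nat.eq_of_beq_eq_true e))]
  set Ls := ({3, 4, 5} : Finset ℕ).filter fun l => ∃ d ∈ O, jLab d = l with hLs
  have hOeq : O = (Finset.range 1782).filter fun d => jLab d ∈ Ls := by
    ext d
    simp only [hmem, Finset.mem_filter, Finset.mem_range, Ls]
    constructor
    · exact fun hd => ⟨hd.1, hlab' d ((hmem d).mpr hd), d, hd, rfl⟩
    · rintro ⟨hd, -, d', ⟨hd', g, hg, e⟩, hl⟩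
      obtain ⟨k, hk, e'⟩ := orbit_step horb hT hd' hd hl
      exact ⟨hd, k * g, mul_mem hk hg, by rw [pt_mul _ _ (lt_n hn), e, e']⟩
  have h3 : 3 ∈ Ls := Finset.mem_filter.mpr ⟨by simp, 47,
    (hmem 47).mpr ⟨hn, 1, one_mem _, pt_one 47⟩, Nat.eq_of_beq_eq_true hl47⟩
  have hcard : O.card = ∑ l ∈ Ls, countLab jOrb l 1782 := by
    rw [hOeq, Finset.card_eq_sum_card_fiberwise (s := (Finset.range 1782).filter fun d => jLab d ∈ Ls) (f := jLab)
      (t := Ls) (fun d hd => (Finset.mem_filter.mp hd).2)]
    refine Finset.sum_congr rfl fun l hl => ?_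
    rw [← count_jLab, Finset.filter_filter]
    refine congrArg Finset.card (Finset.filter_congr fun d _ => ?_)
    exact ⟨fun h => h.2, fun h => ⟨h ▸ hl, h⟩⟩
  have hdvd : O.card ∣ 604800 := by
    let act : MulAction T (Fin Suz1782.cert.T.n) := MulAction.compHom _ (π.comp T.subtype)
    have e := (MulAction.stabilizer T (⟨47, lt_n hn⟩ : Fin Suz1782.cert.T.n)).index_dvd_card
    rw [MulAction.index_stabilizer, Subgroup.card_map_of_injective Hs.subtype_injective, hM] at e
    convert e using 1
    rw [← Set.ncard_coe_finset,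
      ← Set.ncard_image_of_injective (MulAction.orbit T _) (f := fun d : Fin Suz1782.cert.T.n => (d : ℕ))
        (fun _ _ h => Fin.ext h)]
    refine congrArg Set.ncard ?_
    ext d
    rw [Finset.mem_coe, hmem]
    constructor
    · rintro ⟨-, g, hg, rfl⟩
      exact ⟨π g ⟨47, lt_n hn⟩, ⟨⟨g, hg⟩, rfl⟩, (pt_val g ⟨47, lt_n hn⟩).symm⟩
    · rintro ⟨x, ⟨⟨g, hg⟩, rfl⟩, rfl⟩
      exact ⟨Fin.is_lt _, g, hg, pt_val g ⟨47, lt_n hn⟩⟩
  rw [hcard] at hdvd
  have hsub : Ls = {3} := by
    have hsub : Ls ⊆ {3, 4, 5} := Finset.filter_subset _ _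
    have hpow := Finset.mem_powerset.mpr hsub
    have key : ∀ L ∈ ({3, 4, 5} : Finset ℕ).powerset, 3 ∈ L →
        L = {3} ∨ L = {3, 4} ∨ L = {3, 5} ∨ L = {3, 4, 5} := by decide
    rcases key _ hpow h3 with e | e | e | e
    · exact e
    all_goals
      exfalso
      rw [e] at hdvd
      simp [Nat.eq_of_beq_eq_true c3, Nat.eq_of_beq_eq_true c4, Nat.eq_of_beq_eq_true c5] at hdvd
  intro g hg
  have hd : pt (g : presSuz.Grp) 47 ∈ O := (hmem _).mpr ⟨pt_lt' _ hn, g, ⟨g, hg, rfl⟩, rfl⟩
  have h47' : (47 : ℕ) ∈ O := (hmem 47).mpr ⟨hn, 1, one_mem _, pt_one 47⟩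
  have h1 : O.card ≤ 1 := by
    rw [hcard, hsub, Finset.sum_singleton, Nat.eq_of_beq_eq_true c3]
  exact Finset.card_le_one.mp h1 _ hd _ h47'

theorem card_stab47 [Fintype Hg] :
    Nat.card {g : Hg // pt (g : presSuz.Grp) 47 = 47} = 604800 := by
  classical
  let act : MulAction Hg (Fin Suz1782.cert.T.n) := MulAction.compHom _ (π.comp Hs.subtype)
  have hn : (47 : ℕ) < 1782 := by norm_num
  have h := (MulAction.stabilizer Hg (⟨47, lt_n hn⟩ : Fin Suz1782.cert.T.n)).card_mul_index
  rw [MulAction.index_stabilizer, show Nat.card Hg = 251596800 from card_Hs] at h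
  have horb : (MulAction.orbit Hg (⟨47, lt_n hn⟩ : Fin Suz1782.cert.T.n)).ncard = 416 := by
    rw [← Suz1782.count2, countLab_eq, ← Set.ncard_coe_finset,
      ← Set.ncard_image_of_injective _ (f := fun d : Fin Suz1782.cert.T.n => (d : ℕ)) (fun _ _ h => Fin.ext h)]
    refine congrArg Set.ncard ?_
    ext d
    simp only [Set.mem_image, Finset.coe_filter, Finset.mem_range, Set.mem_ofPred_eq]
    have h47 : lab 47 = 2 := by decide +kernel
    constructor
    · rintro ⟨x, ⟨g, rfl⟩, rfl⟩
      refine ⟨Fin.is_lt _, ?_⟩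
      show lab (π (g : presSuz.Grp) ⟨47, lt_n hn⟩ : ℕ) = 2
      rw [← pt_val, lab_Hs g.2 hn, h47]
    · rintro ⟨hd, hl⟩
      obtain ⟨g, hg, e⟩ := exists_mem_of_lab (T := Suz1782.table) (k := 7) (gens := Suz1782.hwR)
        (O := Suz1782.orb) (roots := Suz1782.roots) π Hs
        (fun w hw => ⟨el w, el_mem_Hs ((show ∀ w ∈ Suz1782.hwR, okH w = true by decide +kernel) w hw),
          el_gen ((show ∀ w ∈ Suz1782.hwR, okWord w = true by decide +kernel) w hw)⟩)
        Suz1782.orbs (d := ⟨47, hn⟩) (d' := ⟨d, hd⟩) (h47.trans hl.symm)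
      exact ⟨π g ⟨47, lt_n hn⟩, ⟨⟨g, hg⟩, rfl⟩, congrArg Fin.val e⟩
  rw [horb] at h
  rw [Nat.card_congr (β := MulAction.stabilizer Hg (⟨47, lt_n hn⟩ : Fin Suz1782.cert.T.n))
    (Equiv.subtypeEquivRight fun g => ?_)]
  · omega
  · show pt (g : presSuz.Grp) 47 = 47 ↔ π (g : presSuz.Grp) ⟨47, lt_n hn⟩ = ⟨47, lt_n hn⟩
    have e := pt_val (g : presSuz.Grp) ⟨47, lt_n hn⟩
    constructor
    · exact fun h => Fin.ext (e.symm.trans h)
    · exact fun h => e.trans (congrArg Fin.val h)

/-- A subgroup of index 416 of the point stabiliser is the stabiliser of a point. -/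
theorem index416 (M : Subgroup Hg) (hM : Nat.card M = 604800) :
    ∃ h : Hg, ∀ g : Hg, h * g * h⁻¹ ∈ M ↔ pt (g : presSuz.Grp) 47 = 47 := by
  classical
  haveI : Fintype Hg := Fintype.ofFinite _
  have hH : Nat.card Hg = 251596800 := card_Hs
  have hf : (251596800 : ℕ).factorization 5 = 2 := by
    have h5 : Nat.Prime 5 := by norm_num
    refine le_antisymm ?_ ((h5.pow_dvd_iff_le_factorization (by norm_num)).mp (by norm_num))
    by_contra h
    have := (h5.pow_dvd_iff_le_factorization (k := 3) (show (251596800 : ℕ) ≠ 0 by norm_num)).mpr (by omega)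
    norm_num at this
  obtain ⟨Q₀⟩ := (inferInstance : Nonempty (Sylow 5 M))
  let SM : Sylow 5 Hg := Sylow.ofCard ((Q₀ : Subgroup M).map M.subtype) (by
    rw [Subgroup.card_map_of_injective M.subtype_injective, Q₀.card_eq_multiplicity, hM, fac_five, hH, hf])
  let SP : Sylow 5 Hg := Sylow.ofCard fiveData.P (by rw [fiveData.card_P, hH, hf]; norm_num)
  obtain ⟨h, hh⟩ := MulAction.exists_smul_eq Hg SP SM
  set M' := M.comap (MulAut.conj h).toMonoidHom with hM'
  have hM'c : Nat.card M' = 604800 := by
    rw [hM', ← hM]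
    exact Nat.card_congr ((MulAut.conj h).toEquiv.subtypeEquiv fun _ => Iff.rfl)
  have hPM : fiveData.P ≤ M' := by
    intro p hp
    show (MulAut.conj h) p ∈ M
    have e : ((h • SP : Sylow 5 Hg) : Subgroup Hg) = (SM : Subgroup Hg) := congrArg Sylow.toSubgroup hh
    have hm : MulAut.conj h p ∈ ((h • SP : Sylow 5 Hg) : Subgroup Hg) := by
      rw [Sylow.coe_subgroup_smul]
      exact Subgroup.smul_mem_pointwise_smul p (MulAut.conj h) _ hp
    rw [e] at hm
    exact (Subgroup.map_subtype_le _) hm
  obtain ⟨S, hS3, hSg⟩ := fiveData.three_full hM'c hPM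
  have hX : X₅ ∈ M' := hPM (by simpa [fiveData] using pair_mem 1 0)
  have hY : Y₅ ∈ M' := hPM (by simpa [fiveData] using pair_mem 0 1)
  have hp := pairs_ok
  simp only [Bool.and_eq_true, List.all_eq_true] at hp
  obtain ⟨⟨hlong, hshort⟩, -⟩ := hp
  rcases pairs_cover S hS3 with ⟨t, ht, h1, h2⟩ | ⟨t, ht, h1, h2⟩
  · exfalso
    obtain ⟨p, hp⟩ : ∃ p, (t.1.val, t.2.val, p) ∈ longPairs := by
      revert ht; revert t
      intro t ht1 ht2 ht
      simp only [List.mem_cons, List.not_mem_nil, or_false] at ht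
      rcases ht with rfl | rfl | rfl <;> exact ⟨_, by simp [longPairs]; tauto⟩
    obtain ⟨⟨⟨q1, q2⟩, q3⟩, q4⟩ := hlong _ hp
    simp only [Bool.not_eq_true'] at q3
    have hmem := (pairWord_mem hX hY t.1.2 t.2.2 (hSg _ h1) (hSg _ h2) p (List.all_eq_true.mpr q4)).2
    have ho := orderOf_hel q1 (show Nat.Prime 13 by norm_num) q2 q3
    have := orderOf_dvd_natCard (⟨_, hmem⟩ : M')
    rw [Subgroup.orderOf_mk, ho, hM'c] at this
    norm_num at this
  · obtain ⟨p, hp⟩ : ∃ p, (t.1.val, t.2.val, p) ∈ shortPairs := by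
      revert ht; revert t
      intro t ht1 ht2 ht
      simp only [List.mem_cons, List.not_mem_nil, or_false] at ht
      rcases ht with rfl | rfl | rfl <;> exact ⟨_, by simp [shortPairs]; tauto⟩
    obtain ⟨hlen, hk⟩ := hshort _ hp
    have hj : ∀ w ∈ jW, hel w ∈ M' := by
      intro w hw
      obtain ⟨k, hk', e⟩ := List.getElem_of_mem hw
      obtain ⟨e1, e2⟩ := hk k (List.mem_range.mpr hk')
      obtain ⟨hok, hmem⟩ := pairWord_mem hX hY t.1.2 t.2.2 (hSg _ h1) (hSg _ h2) _ (List.all_eq_true.mpr e2)
      rw [List.getD_eq_getElem _ _ hk', e] at e1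
      have hw' : okH w = true := by
        have h := j_ok; simp only [Bool.and_eq_true, List.all_eq_true] at h; exact (h.1.1.1.1.1.1.2 w hw).1
      rwa [show hel w = hel (pairWord t.1 t.2 (p.getD k [])) from
        Subtype.ext (by rw [hel_val hw', hel_val hok, el_eq e1])]
    have hfix := eq_stab hM'c hj
    refine ⟨h, fun g => ⟨fun hg => hfix g hg, fun hg => ?_⟩⟩
    have hset : (M' : Set Hg) = {g : Hg | pt (g : presSuz.Grp) 47 = 47} :=
      Set.eq_of_subset_of_ncard_le hfix (le_of_eq (by
        rw [← Nat.card_coe_set_eq, ← Nat.card_coe_set_eq]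
        exact card_stab47.trans hM'c.symm))
    have : g ∈ (M' : Set Hg) := hset ▸ hg
    exact this

end CfsgLib.SuzRecog
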