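/-
The trace of a point of the second orbit among the 416 neighbours of the first point is unique.
-/
import Cfsg.Agent.Lib.SuzRecog.Basic
import Cfsg.Agent.Lib.SuzRecog.TraceData
import Mathlib.GroupTheory.PGroup
import Mathlib.Data.Finset.Powerset

set_option autoImplicit false
set_option maxRecDepth 100000
set_option linter.style.haveILetI false

namespace CfsgLib.SuzRecog

open CfsgLib.CosetEnum CfsgLib.SuzOut
open scoped Pointwise

/-- Extending a 2-group by an element of square in it. -/
theorem isPGroup_extend {G : Type*} [Group G] {K : Subgroup G} (hK : IsPGroup 2 K) {u : G}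
    (hu : u ∈ Subgroup.normalizer (K : Set G)) (h2 : u * u ∈ K) : IsPGroup 2 ↥(K ⊔ Subgroup.zpowers u) := by
  rintro ⟨g, hg⟩
  have hset := Subgroup.coe_mul_of_right_le_normalizer_left K (Subgroup.zpowers u) (Subgroup.zpowers_le.mpr hu)
  have hg' : g ∈ (K : Set G) * (Subgroup.zpowers u : Set G) := hset ▸ hg
  obtain ⟨k, hk, z, hz, rfl⟩ := Set.mem_mul.mp hg'
  obtain ⟨n, rfl⟩ := Subgroup.mem_zpowers_iff.mp hz
  have hpow : ∀ m : ℤ, u ^ (2 * m) ∈ K := fun m => by
    rw [zpow_mul]; exact zpow_mem (by rw [zpow_two]; exact h2) m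
  have hsq : k * u ^ n * (k * u ^ n) ∈ K := by
    obtain ⟨m, rfl | rfl⟩ := Int.even_or_odd' n
    · exact mul_mem (mul_mem hk (hpow m)) (mul_mem hk (hpow m))
    · have e : k * u ^ (2 * m + 1) = k * u ^ (2 * m) * u := by rw [zpow_add_one, mul_assoc]
      rw [e]
      set q := k * u ^ (2 * m)
      have hq : q ∈ K := mul_mem hk (hpow m)
      have : q * u * (q * u) = q * (u * q * u⁻¹) * (u * u) := by group
      rw [this]
      exact mul_mem (mul_mem hq ((Subgroup.mem_normalizer_iff.mp hu q).mp hq)) h2
  obtain ⟨j, hj⟩ := hK ⟨_, hsq⟩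
  refine ⟨j + 1, Subtype.ext ?_⟩
  have := congrArg Subtype.val hj
  rw [SubmonoidClass.coe_pow] at this ⊢
  rw [pow_succ', pow_mul, pow_two]
  exact this

/-- The word of a normal form. -/
def nfW (m : ℕ) : List ℕ :=
  (List.range 12).flatMap fun i => if m / 2 ^ i % 2 = 1 then uW.getD i [] else []

/-- The subgroup generated by the tail of the series from `i`. -/
noncomputable def tail (i : ℕ) : Subgroup presSuz.Grp :=
  Subgroup.closure {g | ∃ j, i ≤ j ∧ j < 12 ∧ el (uW.getD j []) = g}

theorem u_ok : ((List.range 12).all (fun i => okH (uW.getD i []) &&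
      Nat.beq (uSq.getD i 0 % 2 ^ (i + 1)) 0 &&
      sameEl (uW.getD i [] ++ uW.getD i []) (nfW (uSq.getD i 0)) &&
      (List.range 12).all fun j => Nat.ble j i || (Nat.beq ((uConj.getD i []).getD j 0 % 2 ^ (i + 1)) 0 &&
        sameEl ((uW.getD i []).reverse ++ (uW.getD j [] ++ uW.getD i [])) (nfW ((uConj.getD i []).getD j 0))))) = true := by
  decide +kernel

theorem nf_mem {i m : ℕ} (h : m % 2 ^ i = 0) : el (nfW m) ∈ tail i := by
  have key : ∀ L : List ℕ, (∀ j ∈ L, j < 12) →
      el (L.flatMap fun j => if m / 2 ^ j % 2 = 1 then uW.getD j [] else []) ∈ tail i := by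
    intro L
    induction L with
    | nil => intro _; exact el_nil ▸ one_mem _
    | cons j L ih =>
      intro hL
      rw [List.flatMap_cons, el_append]
      refine mul_mem (ih fun k hk => hL k (List.mem_cons_of_mem _ hk)) ?_
      split
      · rename_i hb
        refine Subgroup.subset_closure ⟨j, ?_, hL j List.mem_cons_self, rfl⟩
        by_contra hlt
        push Not at hlt
        obtain ⟨q, hq⟩ := Nat.dvd_of_mod_eq_zero h
        rw [hq, show 2 ^ i = 2 ^ j * (2 * 2 ^ (i - j - 1)) by
          rw [← pow_succ', ← pow_add]; congr 1; omega, mul_assoc, Nat.mul_div_cancel_left _ (by positivity),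
          mul_assoc, Nat.mul_mod_right] at hb
        exact absurd hb (by norm_num)
      · exact el_nil ▸ one_mem _
  exact key _ fun j hj => List.mem_range.mp hj

theorem tail_succ {i : ℕ} (hi : i < 12) : tail i = tail (i + 1) ⊔ Subgroup.zpowers (el (uW.getD i [])) := by
  refine le_antisymm ?_ (sup_le ?_ ?_)
  · rw [tail, Subgroup.closure_le]
    rintro _ ⟨j, hij, hj, rfl⟩
    rcases Nat.eq_or_lt_of_le hij with rfl | h
    · exact Subgroup.mem_sup_right (Subgroup.mem_zpowers _)
    · exact Subgroup.mem_sup_left (Subgroup.subset_closure ⟨j, h, hj, rfl⟩)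
  · exact Subgroup.closure_mono fun g ⟨j, h1, h2, h3⟩ => ⟨j, by omega, h2, h3⟩
  · exact Subgroup.zpowers_le.mpr (Subgroup.subset_closure ⟨i, le_rfl, hi, rfl⟩)

theorem tail_pgroup : ∀ k ≤ 12, IsPGroup 2 (tail (12 - k)) := by
  intro k
  induction k with
  | zero =>
    intro _
    have : tail 12 = ⊥ := by
      rw [tail, Subgroup.closure_eq_bot_iff]
      rintro _ ⟨j, h1, h2, -⟩; omega
    rw [Nat.sub_zero, this]
    exact IsPGroup.of_bot
  | succ k ih =>
    intro hk
    have hi : 12 - (k + 1) < 12 := by omega
    have e : 12 - k = 12 - (k + 1) + 1 := by omega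
    have hK := ih (by omega)
    rw [e] at hK
    rw [tail_succ hi]
    set i := 12 - (k + 1)
    have h := List.all_eq_true.mp u_ok i (List.mem_range.mpr hi)
    simp only [Bool.and_eq_true, List.all_eq_true, List.mem_range, Bool.or_eq_true, Nat.ble_eq] at h
    obtain ⟨⟨⟨-, h2⟩, h3⟩, h4⟩ := h
    refine isPGroup_extend hK ?_ ?_
    · have hle : (tail (i + 1)).map (MulAut.conj (el (uW.getD i []))).toMonoidHom ≤ tail (i + 1) := by
        rw [tail, MonoidHom.map_closure, Subgroup.closure_le]
        rintro _ ⟨_, ⟨j, hij, hj, rfl⟩, rfl⟩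
        rcases h4 j hj with hc | ⟨hc1, hc2⟩
        · omega
        · show el (uW.getD i []) * el (uW.getD j []) * (el (uW.getD i []))⁻¹ ∈ _
          rw [← el_inv, el_mul, el_mul, el_eq hc2]
          exact nf_mem (Nat.eq_of_beq_eq_true hc1)
      have heq := Subgroup.eq_of_le_of_card_ge hle
        (Subgroup.card_map_of_injective (MulEquiv.injective _)).ge
      rw [Subgroup.mem_normalizer_iff]
      intro x
      conv_rhs => rw [← heq]
      exact (Subgroup.mem_map_iff_mem (MulEquiv.injective _)).symm
    · rw [el_mul, el_eq h3]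
      exact nf_mem (Nat.eq_of_beq_eq_true h2)

/-- A Sylow 2-subgroup of the point stabiliser. -/
noncomputable abbrev U₂ : Subgroup presSuz.Grp := tail 0

theorem U₂_pgroup : IsPGroup 2 U₂ := tail_pgroup 12 le_rfl

theorem U₂_le : U₂ ≤ Hs := by
  refine (Subgroup.closure_le _).mpr ?_
  rintro _ ⟨j, -, hj, rfl⟩
  have h := List.all_eq_true.mp u_ok j (List.mem_range.mpr hj)
  simp only [Bool.and_eq_true] at h
  exact el_mem_Hs h.1.1.1

/-- The trace of a point among the 416 neighbours of the first point. -/
noncomputable def tr (q : ℕ) : Finset ℕ := (Finset.range 1782).filter fun d => lab d = 2 ∧ rel q d = 2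

/-- The list of an orbit. -/
noncomputable abbrev uPts (i : ℕ) : List ℕ := (uOrbs.getD i (0, [])).2.map Prod.fst

/-- The union of the orbits with the given indices. -/
noncomputable def uUnion (S : List ℕ) : List ℕ := S.flatMap uPts

/-- The check of a candidate. -/
noncomputable def candBad (S : List ℕ) : Bool :=
  let L := uUnion S
  !(Nat.beq L.length 96) || S == [1, 2, 3] ||
    S.any fun i => force (uOrbs.getD i (0, [])).1 fun x => !(Nat.beq (L.countP fun y => Nat.beq (rel x y) 2) 20)

theorem subsets_ok : ((List.range 5).sublists.all candBad) = true := by decide +kernel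

theorem orbs_ok : ((List.range 5).all fun i => force (uOrbs.getD i (0, [])).1 fun r =>
    (uPts i).contains r && (uOrbs.getD i (0, [])).2.all fun p => force p.1 fun d => Nat.blt d 1782 &&
      Nat.beq (lab d) 2 && okWord (nfW p.2) && Nat.beq (run1 (nfW p.2) r) d) = true := by decide +kernel

theorem orbs_cover : (allN 1782 fun d => force d fun d => !(Nat.beq (lab d) 2) ||
    (List.range 5).any fun i => (uPts i).contains d) = true := by decide +kernel

theorem union_nodup : ((List.range 1782).map (fun d => (uUnion [0, 1, 2, 3, 4]).countP (Nat.beq d))).all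
    (fun c => Nat.ble c 1) = true := by decide +kernel

theorem trace_one : ((List.range 1782).filter fun d => Nat.beq (lab d) 2 && Nat.beq (rel 1 d) 2) =
    (List.range 1782).filter fun d => (uUnion [1, 2, 3]).contains d := by decide +kernel

/-- A regular invariant set of 96 of the 416 points is the trace of the point 1. -/
theorem trace_unique (T : Finset ℕ) (hT : ∀ d ∈ T, d < 1782 ∧ lab d = 2)
    (hinv : ∀ g ∈ U₂, ∀ d ∈ T, pt g d ∈ T) (hcard : T.card = 96)
    (hreg : ∀ x ∈ T, (T.filter fun y => rel x y = 2).card = 20) : T = tr 1 := by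
  classical
  set S := (List.range 5).filter fun i => decide ((uOrbs.getD i (0, [])).1 ∈ T) with hS
  have horb := List.all_eq_true.mp orbs_ok
  have hiff : ∀ i < 5, ∀ d ∈ uPts i, (d ∈ T ↔ (uOrbs.getD i (0, [])).1 ∈ T) := by
    intro i hi d hd
    have h := horb i (List.mem_range.mpr hi)
    simp only [force_eq, Bool.and_eq_true, List.all_eq_true, List.contains_iff_mem] at h
    obtain ⟨hr, hpts⟩ := h
    set r := (uOrbs.getD i (0, [])).1
    obtain ⟨p, hp, rfl⟩ := List.mem_map.mp hd
    obtain ⟨⟨⟨-, -⟩, hw⟩, hrun⟩ := hpts p hp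
    obtain ⟨q, hq, eq⟩ := List.mem_map.mp hr
    have hr' : r < 1782 := by
      have := (hpts q hq).1.1.1
      rw [blt_iff, eq] at this; exact this
    have hu : el (nfW p.2) ∈ U₂ := nf_mem (Nat.mod_one _)
    have e : pt (el (nfW p.2)) r = p.1 := (pt_el hw (lt_n hr')).trans (Nat.eq_of_beq_eq_true hrun)
    constructor
    · intro h
      have := hinv _ (inv_mem hu) _ h
      rwa [← e, pt_inv_smul _ hr'] at this
    · intro h
      rw [← e]; exact hinv _ hu _ h
  have hmemT : ∀ d, d ∈ T ↔ d ∈ uUnion S := by
    intro d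
    simp only [uUnion, List.mem_flatMap, S, List.mem_filter, List.mem_range, decide_eq_true_eq]
    constructor
    · intro hd
      obtain ⟨h1, h2⟩ := hT d hd
      have h := allN_spec orbs_cover d h1
      rw [force_eq, h2] at h
      simp only [Nat.beq_refl, Bool.not_true, Bool.false_or, List.any_eq_true, List.mem_range,
        List.contains_iff_mem] at h
      obtain ⟨i, hi, hdi⟩ := h
      exact ⟨i, ⟨hi, (hiff i hi d hdi).mp hd⟩, hdi⟩
    · rintro ⟨i, ⟨hi, hr⟩, hdi⟩
      exact (hiff i hi d hdi).mpr hr
  have hSsub : S ∈ (List.range 5).sublists := List.mem_sublists.mpr List.filter_sublist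
  have hnd : (uUnion S).Nodup := by
    have hsl : (uUnion S).Sublist (uUnion (List.range 5)) := by
      refine List.Sublist.flatten (List.Sublist.map _ ?_)
      exact List.filter_sublist
    refine hsl.nodup ?_
    rw [List.nodup_iff_count_le_one]
    intro d
    by_cases hd : d ∈ uUnion (List.range 5)
    · have hlt : d < 1782 := by
        simp only [uUnion, List.mem_flatMap, List.mem_range] at hd
        obtain ⟨i, hi, hdi⟩ := hd
        have h := horb i (List.mem_range.mpr hi)
        simp only [force_eq, Bool.and_eq_true, List.all_eq_true] at h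
        obtain ⟨p, hp, rfl⟩ := List.mem_map.mp hdi
        exact blt_iff.mp (h.2 p hp).1.1.1
      have h := union_nodup
      simp only [List.all_map, List.all_eq_true, List.mem_range, Function.comp_apply, Nat.ble_eq] at h
      refine le_trans (le_of_eq ?_) (h d hlt)
      rw [List.count_eq_countP]
      refine List.countP_congr fun y _ => ?_
      constructor
      · intro e; rw [beq_iff_eq] at e; rw [e]; exact Nat.beq_refl _
      · intro e; rw [beq_iff_eq]; exact (Nat.eq_of_beq_eq_true e).symm
    · rw [List.count_eq_zero_of_not_mem hd]; norm_num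
  have hTeq : T = (uUnion S).toFinset := Finset.ext fun d => by rw [List.mem_toFinset, hmemT]
  have hlen : (uUnion S).length = 96 := by
    rw [← List.toFinset_card_of_nodup hnd, ← hTeq, hcard]
  have h := List.all_eq_true.mp subsets_ok S hSsub
  simp only [candBad, hlen, Nat.beq_refl, Bool.not_true, Bool.false_or, Bool.or_eq_true, beq_iff_eq,
    List.any_eq_true, force_eq, Bool.not_eq_true'] at h
  rcases h with h | ⟨i, hi, hbad⟩
  · rw [hTeq, h]
    ext d
    have e := congrArg (fun L : List ℕ => d ∈ L) trace_one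
    simp only [List.mem_filter, List.mem_range, Bool.and_eq_true, List.contains_iff_mem, eq_iff_iff] at e
    rw [List.mem_toFinset, tr, Finset.mem_filter, Finset.mem_range]
    constructor
    · intro hd
      have hlt := (hT d ((hmemT d).mpr (h ▸ hd))).1
      obtain ⟨-, h1, h2⟩ := e.mpr ⟨hlt, hd⟩
      exact ⟨hlt, Nat.eq_of_beq_eq_true h1, Nat.eq_of_beq_eq_true h2⟩
    · rintro ⟨h0, h1, h2⟩
      exact (e.mp ⟨h0, by rw [h1]; exact Nat.beq_refl _, by rw [h2]; exact Nat.beq_refl _⟩).2
  · exfalso
    have hx : (uOrbs.getD i (0, [])).1 ∈ T := by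
      have := (List.mem_filter.mp hi).2
      exact of_decide_eq_true this
    have hc := hreg _ hx
    set x := (uOrbs.getD i (0, [])).1
    have e : (T.filter fun y => rel x y = 2).card = (uUnion S).countP fun y => Nat.beq (rel x y) 2 := by
      rw [List.countP_eq_length_filter, ← List.toFinset_card_of_nodup (hnd.filter _), hTeq]
      refine congrArg Finset.card (Finset.ext fun y => ?_)
      simp only [Finset.mem_filter, List.mem_toFinset, List.mem_filter]
      exact and_congr_right fun _ => ⟨fun h => by rw [h]; exact Nat.beq_refl _, Nat.eq_of_beq_eq_true⟩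
    rw [← e, hc, Nat.beq_refl] at hbad
    exact absurd hbad (by decide)

end CfsgLib.SuzRecog
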