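/-
Facts about the graph on the certified 1782 points.
-/
import Cfsg.Agent.Lib.SuzRecog.Index416
import Cfsg.Agent.Lib.SuzRecog.Trace

set_option autoImplicit false
set_option maxRecDepth 100000

namespace CfsgLib.SuzRecog

open CfsgLib.CosetEnum CfsgLib.SuzOut

theorem back_ok : allN 1782 (fun d => force d fun d => Nat.beq (lab (run1 (pathW 48 d) 0)) (lab d)) = true := by
  decide +kernel

theorem rel_comm {p q : ℕ} (hp : p < 1782) (hq : q < 1782) : rel p q = rel q p := by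
  obtain ⟨hw, h0⟩ := path_spec (lt_n hp)
  set g := el (pathW 48 p)
  have hg0 : pt g p = 0 := (pt_el hw (lt_n hp)).trans h0
  have hq' := pt_lt' g hq
  rw [← rel_inv g (lt_n hp) (lt_n hq), ← rel_inv g (lt_n hq) (lt_n hp), hg0, rel_zero_left, rel_eq]
  have := allN_spec back_ok _ hq'
  rw [force_eq] at this
  exact (Nat.eq_of_beq_eq_true this).symm

theorem lab_roots : (Nat.beq (lab 47) 2 && Nat.beq (lab 1) 1 && Nat.beq (lab 72) 2) = true := by decide +kernel

theorem lab47 : lab 47 = 2 := by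
  have h := lab_roots; simp only [Bool.and_eq_true] at h; exact Nat.eq_of_beq_eq_true h.1.1

theorem lab1 : lab 1 = 1 := by
  have h := lab_roots; simp only [Bool.and_eq_true] at h; exact Nat.eq_of_beq_eq_true h.1.2

theorem lab72 : lab 72 = 2 := by
  have h := lab_roots; simp only [Bool.and_eq_true] at h; exact Nat.eq_of_beq_eq_true h.2

theorem Hs_trans {d d' : ℕ} (hd : d < 1782) (hd' : d' < 1782) (h : lab d = lab d') : ∃ g ∈ Hs, pt g d = d' := by
  obtain ⟨g, hg, e⟩ := exists_mem_of_lab (T := Suz1782.table) (k := 7) (gens := Suz1782.hwR) (O := Suz1782.orb)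
    (roots := Suz1782.roots) π Hs
    (fun w hw => ⟨el w, el_mem_Hs ((show ∀ w ∈ Suz1782.hwR, okH w = true by decide +kernel) w hw),
      el_gen ((show ∀ w ∈ Suz1782.hwR, okWord w = true by decide +kernel) w hw)⟩)
    Suz1782.orbs (d := ⟨d, hd⟩) (d' := ⟨d', hd'⟩) h
  exact ⟨g, hg, (pt_val g ⟨d, hd⟩).trans (congrArg Fin.val e)⟩

theorem union_of_labels {gens : List (List ℕ)} {O : Tree} {roots : List ℕ}
    (hok : okOrbs Suz1782.table 7 gens O roots 0 1782 = true) {S : Subgroup presSuz.Grp}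
    (hgens : ∀ w ∈ gens, okWord w = true ∧ el w ∈ S) (D : Finset ℕ) (hD : ∀ d ∈ D, d < 1782)
    (hinv : ∀ g ∈ S, ∀ d ∈ D, pt g d ∈ D) (A : Finset ℕ) (hA : ∀ d ∈ D, orbLab O d ∈ A) :
    ∃ L ∈ A.powerset, (∀ d < 1782, d ∈ D ↔ orbLab O d ∈ L) ∧ D.card = ∑ l ∈ L, countLab O l 1782 := by
  classical
  refine ⟨D.image (orbLab O), Finset.mem_powerset.mpr fun l hl => ?_, ?_⟩
  · obtain ⟨d, hd, rfl⟩ := Finset.mem_image.mp hl
    exact hA d hd
  have hiff : ∀ d < 1782, d ∈ D ↔ orbLab O d ∈ D.image (orbLab O) := by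
    refine fun d hd => ⟨fun h => Finset.mem_image_of_mem _ h, fun h => ?_⟩
    obtain ⟨d', hd', e⟩ := Finset.mem_image.mp h
    obtain ⟨g, hg, rfl⟩ := orbit_step hok hgens (hD d' hd') hd e
    exact hinv g hg d' hd'
  refine ⟨hiff, ?_⟩
  rw [Finset.card_eq_sum_card_image (orbLab O) D]
  refine Finset.sum_congr rfl fun l hl => ?_
  rw [countLab_eq]
  refine congrArg Finset.card (Finset.ext fun d => ?_)
  simp only [Finset.mem_filter, Finset.mem_range]
  constructor
  · exact fun h => ⟨hD d h.1, h.2⟩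
  · exact fun h => ⟨(hiff d h.1).mpr (h.2 ▸ hl), h.2⟩

theorem jLab_facts : (allN 1782 fun d => force d fun d => !(Nat.beq (lab d) 2) || Nat.beq d 47 ||
    ((Nat.beq (jLab d) 4 && Nat.beq (rel 47 d) 1) || (Nat.beq (jLab d) 5 && Nat.beq (rel 47 d) 2))) = true := by
  decide +kernel

theorem jLab_adj {d : ℕ} (hd : d < 1782) (h2 : lab d = 2) (h47 : d ≠ 47) :
    jLab d = 4 ∧ rel 47 d = 1 ∨ jLab d = 5 ∧ rel 47 d = 2 := by
  have h := allN_spec jLab_facts d hd
  have hb : Nat.beq d 47 = false := by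
    cases hb : Nat.beq d 47
    · rfl
    · exact absurd (Nat.eq_of_beq_eq_true hb) h47
  rw [force_eq, h2, hb] at h
  simp only [Nat.beq_refl, Bool.not_true, Bool.false_or, Bool.or_eq_true, Bool.and_eq_true] at h
  rcases h with ⟨a, b⟩ | ⟨a, b⟩
  · exact Or.inl ⟨Nat.eq_of_beq_eq_true a, Nat.eq_of_beq_eq_true b⟩
  · exact Or.inr ⟨Nat.eq_of_beq_eq_true a, Nat.eq_of_beq_eq_true b⟩

theorem j_orbs : okOrbs Suz1782.table 7 jW jOrb jRoots 0 1782 = true ∧
    (∀ w ∈ jW, okH w = true ∧ run1 w 47 = 47) ∧ countLab jOrb 4 1782 = 315 ∧ countLab jOrb 5 1782 = 100 := by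
  have h := j_ok
  simp only [Bool.and_eq_true, List.all_eq_true] at h
  obtain ⟨⟨⟨⟨⟨⟨⟨horb, hgen⟩, -⟩, -⟩, -⟩, c4⟩, c5⟩, -⟩ := h
  exact ⟨horb, fun w hw => ⟨(hgen w hw).1, Nat.eq_of_beq_eq_true (hgen w hw).2⟩,
    Nat.eq_of_beq_eq_true c4, Nat.eq_of_beq_eq_true c5⟩

/-- The number of common neighbours among the 416. -/
noncomputable def cnt (p q : ℕ) : ℕ :=
  ((Finset.range 1782).filter fun z => lab z = 2 ∧ rel p z = 2 ∧ rel q z = 2).card

theorem cnt_inv {g : presSuz.Grp} (hg : g ∈ Hs) {p q : ℕ} (hp : p < 1782) (hq : q < 1782) :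
    cnt (pt g p) (pt g q) = cnt p q := by
  refine Finset.card_nbij' (fun z => pt g⁻¹ z) (fun z => pt g z) ?_ ?_ ?_ ?_
  · intro z hz
    simp only [Finset.coe_filter, Finset.mem_range, Set.mem_ofPred_eq] at hz ⊢
    obtain ⟨hz, h1, h2, h3⟩ := hz
    refine ⟨pt_lt' _ hz, ?_, ?_, ?_⟩
    · rw [lab_Hs (inv_mem hg) hz, h1]
    · rw [← rel_inv g (lt_n hp) (lt_n (pt_lt' g⁻¹ hz)), pt_smul_inv g hz, h2]
    · rw [← rel_inv g (lt_n hq) (lt_n (pt_lt' g⁻¹ hz)), pt_smul_inv g hz, h3]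
  · intro z hz
    simp only [Finset.coe_filter, Finset.mem_range, Set.mem_ofPred_eq] at hz ⊢
    obtain ⟨hz, h1, h2, h3⟩ := hz
    refine ⟨pt_lt' _ hz, ?_, ?_, ?_⟩
    · rw [lab_Hs hg hz, h1]
    · rw [rel_inv g (lt_n hp) (lt_n hz), h2]
    · rw [rel_inv g (lt_n hq) (lt_n hz), h3]
  · intro z hz
    simp only [Finset.coe_filter, Finset.mem_range, Set.mem_ofPred_eq] at hz
    exact pt_smul_inv g hz.1
  · intro z hz
    simp only [Finset.coe_filter, Finset.mem_range, Set.mem_ofPred_eq] at hz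
    exact pt_inv_smul g hz.1

theorem cnt_root : Nat.beq ((List.range 1782).countP fun z => force z fun z =>
    Nat.beq (lab z) 2 && Nat.beq (rel 47 z) 2 && Nat.beq (rel 72 z) 2) 20 = true := by decide +kernel

theorem cnt_47_72 : cnt 47 72 = 20 := by
  rw [← Nat.eq_of_beq_eq_true cnt_root, cnt, List.countP_eq_length_filter,
    ← List.toFinset_card_of_nodup (List.nodup_range.filter _)]
  refine congrArg Finset.card (Finset.ext fun z => ?_)
  simp only [Finset.mem_filter, Finset.mem_range, List.mem_toFinset, List.mem_filter, List.mem_range, force_eq,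
    Bool.and_eq_true]
  constructor
  · rintro ⟨h, a, b, c⟩
    exact ⟨h, ⟨by rw [a]; exact Nat.beq_refl _, by rw [b]; exact Nat.beq_refl _⟩, by rw [c]; exact Nat.beq_refl _⟩
  · rintro ⟨h, ⟨a, b⟩, c⟩
    exact ⟨h, Nat.eq_of_beq_eq_true a, Nat.eq_of_beq_eq_true b, Nat.eq_of_beq_eq_true c⟩

/-- Two non-adjacent points among the 416 have 20 common neighbours there. -/
theorem cnt_nonadj {g : presSuz.Grp} (hg : g ∈ Hs) {q : ℕ} (hq : q < 1782) (h2 : lab q = 2)
    (hne : q ≠ 47) (hna : rel 47 q ≠ 2) : cnt (pt g 47) (pt g q) = 20 := by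
  rw [cnt_inv hg (by norm_num) hq]
  obtain ⟨horb, hgen, -, -⟩ := j_orbs
  rcases jLab_adj hq h2 hne with ⟨h4, -⟩ | ⟨-, h⟩
  · obtain ⟨k, hk, e⟩ := orbit_step horb (S := Hs ⊓ (MulAction.stabilizer (Equiv.Perm (Fin Suz1782.cert.T.n))
        (⟨47, lt_n (by norm_num)⟩ : Fin Suz1782.cert.T.n)).comap π) (fun w hw => by
      have h := (hgen w hw).1
      have h' := h
      rw [okH, Bool.and_eq_true] at h'
      exact ⟨h'.1, el_mem_Hs h, Fin.ext ((el_gen h'.1 _).trans (hgen w hw).2)⟩)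
      (d := 72) (d' := q) (by norm_num) hq
      ((show jLab 72 = 4 by decide +kernel).trans h4.symm)
    have h47 : pt k 47 = 47 := (pt_val k ⟨47, lt_n (by norm_num)⟩).trans (congrArg Fin.val hk.2)
    rw [← e]
    conv_lhs => arg 1; rw [← h47]
    rw [cnt_inv hk.1 (by norm_num) (by norm_num), cnt_47_72]
  · exact absurd h hna

/-- The trace of the point 1. -/
def tr1L : List ℕ := [130, 180, 197, 201, 202, 228, 275, 278, 279, 304, 308, 312, 313, 317, 318, 347, 352, 407, 410, 413, 414, 415, 416, 439, 450, 456, 465, 466, 469, 472, 473, 474, 513, 518, 593, 603, 611, 612, 613, 614, 615, 643, 644, 661, 669, 686, 687, 688, 689, 690, 750, 780, 870, 884, 900, 901, 961, 989, 995, 1002, 1102, 1115, 1120, 1122, 1231, 1253, 1265, 1290, 1307, 1318, 1330, 1338, 1445, 1450, 1452, 1459, 1461, 1465, 1615, 1616, 1617, 1621, 1625, 1627, 1697, 1699, 1701, 1756, 1757, 1758, 1759, 1760, 1775, 1777, 1780, 1781]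

/-- The checks of the traces and of the stabiliser of the point 1. -/
theorem trace_facts : ((((List.range 1782).filter fun d => Nat.beq (lab d) 2 && Nat.beq (rel 1 d) 2) == tr1L) &&
    Nat.beq tr1L.length 96 && allN 1782 (fun d => force d fun d =>
      !(Nat.beq (lab d) 1) || Nat.beq d 1 || tr1L.any fun x => !(Nat.beq (rel d x) 2)) &&
    okOrbs Suz1782.table 7 lW lOrb lRoots 0 1782 &&
    (lW.all fun w => okH w && Nat.beq (run1 w 1) 1) &&
    Nat.beq (countLab lOrb 2 1782) 1024 && Nat.beq (countLab lOrb 3 1782) 20 &&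
    Nat.beq (countLab lOrb 4 1782) 320 &&
    allN 1782 (fun d => force d fun d => !(Nat.beq (lab d) 1) || Nat.beq d 1 ||
      ((Nat.beq (orbLab lOrb d) 2 || Nat.beq (orbLab lOrb d) 3 || Nat.beq (orbLab lOrb d) 4) &&
        (Nat.beq (rel 1 d) 2 == Nat.beq (orbLab lOrb d) 4)))) = true := by decide +kernel

theorem tr1_card : (tr 1).card = 96 := by
  have h := trace_facts
  simp only [Bool.and_eq_true, beq_iff_eq] at h
  rw [← Nat.eq_of_beq_eq_true h.1.1.1.1.1.1.1.2, ← h.1.1.1.1.1.1.1.1,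
    ← List.toFinset_card_of_nodup (List.nodup_range.filter _)]
  refine congrArg Finset.card (Finset.ext fun z => ?_)
  simp only [tr, Finset.mem_filter, Finset.mem_range, List.mem_toFinset, List.mem_filter, List.mem_range,
    Bool.and_eq_true]
  constructor
  · rintro ⟨h, a, b⟩
    exact ⟨h, by rw [a]; exact Nat.beq_refl _, by rw [b]; exact Nat.beq_refl _⟩
  · rintro ⟨h, a, b⟩
    exact ⟨h, Nat.eq_of_beq_eq_true a, Nat.eq_of_beq_eq_true b⟩

theorem mem_tr {q d : ℕ} : d ∈ tr q ↔ d < 1782 ∧ lab d = 2 ∧ rel q d = 2 := by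
  simp [tr]

/-- A point of the second orbit is determined by its trace. -/
theorem eq_one_of_trace {r : ℕ} (hr : r < 1782) (h1 : lab r = 1) (h : ∀ x ∈ tr 1, rel r x = 2) : r = 1 := by
  by_contra hne
  have hf := trace_facts
  simp only [Bool.and_eq_true] at hf
  have e := allN_spec hf.1.1.1.1.1.1.2 r hr
  have hb : Nat.beq r 1 = false := by
    cases hb : Nat.beq r 1
    · rfl
    · exact absurd (Nat.eq_of_beq_eq_true hb) hne
  rw [force_eq, h1, hb] at e
  rw [← (beq_iff_eq.mp hf.1.1.1.1.1.1.1.1)] at e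
  simp only [Nat.beq_refl, Bool.not_true, Bool.false_or, List.any_eq_true, List.mem_filter, List.mem_range,
    Bool.and_eq_true, Bool.not_eq_true'] at e
  obtain ⟨x, ⟨hx, a, b⟩, hbad⟩ := e
  rw [h x (mem_tr.mpr ⟨hx, Nat.eq_of_beq_eq_true a, Nat.eq_of_beq_eq_true b⟩), Nat.beq_refl] at hbad
  exact absurd hbad (by decide)

/-- An invariant set of 320 points of the second orbit is the set of neighbours of the point 1 there. -/
theorem far_far (S : Subgroup presSuz.Grp) (hS : ∀ g ∈ Hs, pt g 1 = 1 → g ∈ S) (D : Finset ℕ)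
    (hD : ∀ d ∈ D, d < 1782 ∧ lab d = 1 ∧ d ≠ 1) (hinv : ∀ g ∈ S, ∀ d ∈ D, pt g d ∈ D) (hcard : D.card = 320)
    {d : ℕ} (hd : d < 1782) (h1 : lab d = 1) (hne : d ≠ 1) : d ∈ D ↔ rel 1 d = 2 := by
  classical
  have hf := trace_facts
  simp only [Bool.and_eq_true, List.all_eq_true] at hf
  obtain ⟨⟨⟨⟨⟨⟨-, horb⟩, hgen⟩, c2⟩, c3⟩, c4⟩, hlab⟩ := hf
  have hl : ∀ x < 1782, lab x = 1 → x ≠ 1 →
      orbLab lOrb x ∈ ({2, 3, 4} : Finset ℕ) ∧ (rel 1 x = 2 ↔ orbLab lOrb x = 4) := by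
    intro x hx hx1 hxne
    have e := allN_spec hlab x hx
    have hb : Nat.beq x 1 = false := by
      cases hb : Nat.beq x 1
      · rfl
      · exact absurd (Nat.eq_of_beq_eq_true hb) hxne
    rw [force_eq, hx1, hb] at e
    simp only [Nat.beq_refl, Bool.not_true, Bool.false_or, Bool.and_eq_true, Bool.or_eq_true, beq_iff_eq] at e
    refine ⟨?_, ?_⟩
    · simp only [Finset.mem_insert, Finset.mem_singleton]
      rcases e.1 with (a | a) | a
      exacts [Or.inl (Nat.eq_of_beq_eq_true a), Or.inr (Or.inl (Nat.eq_of_beq_eq_true a)),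
        Or.inr (Or.inr (Nat.eq_of_beq_eq_true a))]
    · constructor
      · intro a
        exact Nat.eq_of_beq_eq_true (e.2 ▸ (by rw [a]; exact Nat.beq_refl _))
      · intro a
        exact Nat.eq_of_beq_eq_true (e.2.symm ▸ (by rw [a]; exact Nat.beq_refl _))
  have hgens : ∀ w ∈ lW, okWord w = true ∧ el w ∈ S := fun w hw => by
    have h := (hgen w hw).1
    have h' := h
    rw [okH, Bool.and_eq_true] at h'
    exact ⟨h'.1, hS _ (el_mem_Hs h) ((pt_el h'.1 (lt_n (by norm_num))).trans (Nat.eq_of_beq_eq_true (hgen w hw).2))⟩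
  obtain ⟨L, hL, hiff, hsum⟩ := union_of_labels horb hgens D (fun x hx => (hD x hx).1) hinv {2, 3, 4}
    (fun x hx => (hl x (hD x hx).1 (hD x hx).2.1 (hD x hx).2.2).1)
  rw [hcard] at hsum
  have hL4 : L = {4} := by
    have key : ∀ L ∈ ({2, 3, 4} : Finset ℕ).powerset, L = ∅ ∨ L = {2} ∨ L = {3} ∨ L = {4} ∨ L = {2, 3} ∨
        L = {2, 4} ∨ L = {3, 4} ∨ L = {2, 3, 4} := by decide
    rcases key L hL with e | e | e | e | e | e | e | e
    case inr.inr.inr.inl => exact e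
    all_goals
      exfalso
      rw [e] at hsum
      simp [Nat.eq_of_beq_eq_true c2, Nat.eq_of_beq_eq_true c3, Nat.eq_of_beq_eq_true c4] at hsum
  rw [hiff d hd, hL4, Finset.mem_singleton, (hl d hd h1 hne).2]

end CfsgLib.SuzRecog
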