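/-
A rank three group on 1782 points with stabiliser G₂(4) and suborbits 1, 416, 1365 is the Suzuki group.
-/
import Cfsg.Agent.Lib.SuzRecog.Model
import Cfsg.Agent.Lib.SuzRecog.Aut
import Cfsg.Agent.S1679
import Cfsg.Agent.S1055

set_option autoImplicit false
set_option maxRecDepth 100000
set_option maxHeartbeats 4000000
set_option linter.style.haveILetI false
set_option linter.unusedSectionVars false

namespace CfsgLib.SuzRecog

open Cfsg CfsgLib.CosetEnum CfsgLib.SuzOut
open scoped Pointwise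

variable {Ω : Type*} [Fintype Ω] [DecidableEq Ω] {G : Subgroup (Equiv.Perm Ω)}

theorem card_pair_stab (a y : Ω) :
    Nat.card ↥(MulAction.stabilizer G (a, y)) =
      Nat.card ↥(MulAction.stabilizer (MulAction.stabilizer G a) y) :=
  Nat.card_congr
    { toFun := fun g => ⟨⟨g.1, congrArg Prod.fst g.2⟩, congrArg Prod.snd g.2⟩
      invFun := fun g => ⟨g.1.1, Prod.ext g.1.2 g.2⟩
      left_inv := fun _ => rfl
      right_inv := fun _ => rfl }

theorem pair_orbit [MulAction.IsPretransitive G Ω] (a y : Ω) :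
    (MulAction.orbit G (a, y)).ncard =
      Fintype.card Ω * (MulAction.orbit (MulAction.stabilizer G a) y).ncard := by
  have o1 := (MulAction.stabilizer G (a, y)).card_mul_index
  have o2 := (MulAction.stabilizer (MulAction.stabilizer G a) y).card_mul_index
  have o3 := (MulAction.stabilizer G a).card_mul_index
  rw [MulAction.index_stabilizer] at o1 o2
  rw [MulAction.index_stabilizer_of_transitive, Nat.card_eq_fintype_card (α := Ω)] at o3
  rw [← o3, ← o2, card_pair_stab, mul_assoc] at o1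
  rw [Nat.eq_of_mul_eq_mul_left Nat.card_pos o1]
  ring

/-- The stabiliser identified with the point stabiliser of the model, the point `b` going to 47. -/
theorem identify (a : Ω) (K : Type) [Field K] [Fintype K] (hK : Fintype.card K = 4)
    (e : MulAction.stabilizer G a ≃* Cfsg.Lie.chevG2.group K) (b : Ω)
    (hb : (MulAction.orbit (MulAction.stabilizer G a) b).ncard = 416) :
    ∃ ι : MulAction.stabilizer G a ≃* Hg,
      ∀ s : MulAction.stabilizer G a, s • b = b ↔ pt (ι s : presSuz.Grp) 47 = 47 := by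
  obtain ⟨χ⟩ := Cfsg.Agent.S1679.chevIso
  obtain ⟨sub⟩ := Cfsg.Agent.S1679.subIso
  obtain ⟨r⟩ := CfsgLib.G24.exists_ringEquiv K hK
  obtain ⟨ψ⟩ := CfsgLib.G24.group_equiv r
  set ι₀ : MulAction.stabilizer G a ≃* Hg := e.trans (ψ.trans (χ.symm.trans sub))
  set S := MulAction.stabilizer G a
  haveI : Finite S := inferInstance
  set M := (MulAction.stabilizer S b).map ι₀.toMonoidHom with hM
  have hS : Nat.card S = 251596800 := (Nat.card_congr ι₀.toEquiv).trans card_Hs
  have hMc : Nat.card M = 604800 := by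
    have h := (MulAction.stabilizer S b).card_mul_index
    rw [MulAction.index_stabilizer, hb, hS] at h
    rw [hM, Subgroup.card_map_of_injective ι₀.injective]
    omega
  obtain ⟨h, hh⟩ := index416 M hMc
  refine ⟨ι₀.trans (MulAut.conj h⁻¹), fun s => ?_⟩
  rw [← hh]
  show _ ↔ h * (h⁻¹ * ι₀ s * h⁻¹⁻¹) * h⁻¹ ∈ M
  rw [show h * (h⁻¹ * ι₀ s * h⁻¹⁻¹) * h⁻¹ = ι₀ s by group, hM, ← MulAction.mem_stabilizer_iff]
  exact (Subgroup.mem_map_iff_mem ι₀.injective).symm

theorem recognise (hΩ : Fintype.card Ω = 1782) [MulAction.IsPretransitive G Ω] (a : Ω)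
    (K : Type) [Field K] [Fintype K] (hK : Fintype.card K = 4)
    (e : MulAction.stabilizer G a ≃* Cfsg.Lie.chevG2.group K) (b c : Ω)
    (hb : (MulAction.orbit (MulAction.stabilizer G a) b).ncard = 416)
    (hc : (MulAction.orbit (MulAction.stabilizer G a) c).ncard = 1365) : Spor.IsoSuz G := by
  classical
  obtain ⟨ι, hstab⟩ : ∃ ι : MulAction.stabilizer G a ≃* Hg,
      ∀ s : MulAction.stabilizer G a, s • b = b ↔ pt (ι s : presSuz.Grp) 47 = 47 := identify a K hK e b hb
  revert ι hstab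
  set S := MulAction.stabilizer G a with hS
  intro ι hstab
  have hsing : MulAction.orbit S a = {a} := by
    ext y
    exact ⟨fun ⟨g, hg⟩ => hg ▸ g.2, fun h => by rw [Set.mem_singleton_iff.mp h]; exact MulAction.mem_orbit_self _⟩
  have horbit : ∀ y, y = a ∨ y ∈ MulAction.orbit S b ∨ y ∈ MulAction.orbit S c := by
    have d1 : Disjoint ({a} : Set Ω) (MulAction.orbit S b) := Set.disjoint_singleton_left.mpr fun h => by
      rw [← MulAction.orbit_eq_iff, hsing] at h
      rw [← h, Set.ncard_singleton] at hb; omega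
    have d2 : Disjoint ({a} : Set Ω) (MulAction.orbit S c) := Set.disjoint_singleton_left.mpr fun h => by
      rw [← MulAction.orbit_eq_iff, hsing] at h
      rw [← h, Set.ncard_singleton] at hc; omega
    have d3 : Disjoint (MulAction.orbit S b) (MulAction.orbit S c) := Set.disjoint_left.mpr fun y h1 h2 => by
      rw [← MulAction.orbit_eq_iff] at h1 h2
      rw [← h1, h2] at hb; omega
    have h : ({a} ∪ MulAction.orbit S b ∪ MulAction.orbit S c : Set Ω) = Set.univ := by
      refine Set.eq_of_subset_of_ncard_le (Set.subset_univ _) ?_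
      rw [Set.ncard_univ, Nat.card_eq_fintype_card, hΩ, Set.ncard_union_eq (d2.union_left d3),
        Set.ncard_union_eq d1, Set.ncard_singleton, hb, hc]
    intro y
    simpa [or_assoc] using Set.eq_univ_iff_forall.mp h y
  have hba : b ≠ a := fun h => by
    rw [h, hsing, Set.ncard_singleton] at hb; omega
  have hca : c ≠ a := fun h => by
    rw [h, hsing, Set.ncard_singleton] at hc; omega
  have hself : (b, a) ∈ MulAction.orbit G (a, b) := by
    obtain ⟨g, hg⟩ := MulAction.exists_smul_eq G b a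
    have hsw : (MulAction.orbit G (b, a)).ncard = (MulAction.orbit G (a, b)).ncard := by
      rw [← Set.ncard_image_of_injective (MulAction.orbit G (a, b)) (f := Prod.swap) Prod.swap_injective]
      congr 1
      ext p
      constructor
      · rintro ⟨k, rfl⟩; exact ⟨_, ⟨k, rfl⟩, rfl⟩
      · rintro ⟨_, ⟨k, rfl⟩, rfl⟩; exact ⟨k, rfl⟩
    have hmem : (a, g • a) ∈ MulAction.orbit G (b, a) := ⟨g, Prod.ext hg rfl⟩
    have h1 := pair_orbit (G := G) a (g • a)
    rw [MulAction.orbit_eq_iff.mpr hmem, hsw, pair_orbit, hb, hΩ] at h1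
    rcases horbit (g • a) with h | h | h
    · exfalso
      rw [h, hsing, Set.ncard_singleton] at h1; omega
    · obtain ⟨s, hs⟩ := h
      refine ⟨g⁻¹ * (s : G), ?_⟩
      show ((g⁻¹ * (s : G)) • a, (g⁻¹ * (s : G)) • b) = (b, a)
      rw [mul_smul, mul_smul, show (s : G) • a = a from s.2, show (s : G) • b = g • a from hs, ← hg,
        inv_smul_smul, inv_smul_smul]
    · exfalso
      rw [MulAction.orbit_eq_iff.mpr h, hc] at h1; omega
  let R : Ω → Ω → Prop := fun x y => ∃ g : G, g • a = x ∧ g • b = y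
  have hsymm : ∀ x y, R x y → R y x := fun x y ⟨g, hx, hy⟩ => by
    obtain ⟨s, hs⟩ := hself
    have hs' : s • a = b ∧ s • b = a := ⟨congrArg Prod.fst hs, congrArg Prod.snd hs⟩
    exact ⟨g * s, by rw [mul_smul, hs'.1, hy], by rw [mul_smul, hs'.2, hx]⟩
  have hirr : ∀ x, ¬ R x x := fun x ⟨g, hx, hy⟩ => hba (MulAction.injective g (hy.trans hx.symm))
  have hmap : ∀ (g : G) (x y : Ω), R x y → R (g • x) (g • y) := fun g x y ⟨h, hx, hy⟩ =>
    ⟨g * h, by rw [mul_smul, hx], by rw [mul_smul, hy]⟩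
  have hiff : ∀ (g : G) (x y : Ω), R (g • x) (g • y) ↔ R x y := fun g x y =>
    ⟨fun h => by simpa using hmap g⁻¹ _ _ h, hmap g x y⟩
  have hNa : ∀ y, R a y ↔ y ∈ MulAction.orbit S b := fun y =>
    ⟨fun ⟨g, hx, hy⟩ => ⟨⟨g, hx⟩, hy⟩, fun ⟨g, hg⟩ => ⟨g.1, g.2, hg⟩⟩
  have hac : ¬ R a c := fun h => by
    rw [hNa, ← MulAction.orbit_eq_iff] at h
    rw [h, hb] at hc; omega
  have hfarO : ∀ y, (y ≠ a ∧ ¬ R a y) ↔ y ∈ MulAction.orbit S c := by
    intro y
    constructor
    · rintro ⟨h1, h2⟩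
      rcases horbit y with h | h | h
      exacts [absurd h h1, absurd ((hNa y).mpr h) h2, h]
    · intro h
      rw [← MulAction.orbit_eq_iff] at h
      refine ⟨fun e => ?_, fun e => ?_⟩
      · rw [e, hsing] at h; rw [← h, Set.ncard_singleton] at hc; omega
      · rw [hNa, ← MulAction.orbit_eq_iff, h] at e
        rw [e, hb] at hc; omega
  have hdeg : ∀ x, (Finset.univ.filter (R x)).card = 416 := by
    intro x
    obtain ⟨g, rfl⟩ := MulAction.exists_smul_eq G a x
    rw [← Set.ncard_coe_finset, ← hb]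
    have : (↑(Finset.univ.filter (R (g • a))) : Set Ω) = (g • ·) '' MulAction.orbit S b := by
      ext y
      simp only [Finset.coe_filter, Finset.mem_univ, true_and, Set.mem_ofPred_eq, Set.mem_image, ← hNa]
      exact ⟨fun h => ⟨g⁻¹ • y, (hiff g _ _).mp (by rwa [smul_inv_smul]), smul_inv_smul g y⟩,
        fun ⟨z, hz, e⟩ => e ▸ hmap g _ _ hz⟩
    rw [this, Set.ncard_image_of_injective _ (MulAction.injective g)]
  let cm : Ω → Ω → ℕ := fun x y => (Finset.univ.filter fun z => R x z ∧ R y z).card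
  have hcm : ∀ (g : G) (x y : Ω), cm (g • x) (g • y) = cm x y := by
    intro g x y
    refine Finset.card_nbij' (fun z => g⁻¹ • z) (fun z => g • z) ?_ ?_ ?_ ?_
    · intro z hz
      simp only [Finset.coe_filter, Finset.mem_univ, true_and, Set.mem_ofPred_eq] at hz ⊢
      exact ⟨by simpa using hmap g⁻¹ _ _ hz.1, by simpa using hmap g⁻¹ _ _ hz.2⟩
    · intro z hz
      simp only [Finset.coe_filter, Finset.mem_univ, true_and, Set.mem_ofPred_eq] at hz ⊢
      exact ⟨hmap g _ _ hz.1, hmap g _ _ hz.2⟩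
    · exact fun z _ => smul_inv_smul g z
    · exact fun z _ => inv_smul_smul g z
  set l := cm a b with hl
  set m := cm a c with hm
  have hadj : ∀ x y, R x y → cm x y = l := fun x y ⟨g, hx, hy⟩ => by rw [← hx, ← hy, hcm]
  have hnadj : ∀ x y, x ≠ y → ¬ R x y → cm x y = m := by
    intro x y hne hna
    obtain ⟨g, rfl⟩ := MulAction.exists_smul_eq G a x
    rw [← smul_inv_smul g y, hcm]
    rcases horbit (g⁻¹ • y) with h | h | h
    · exact absurd (by rw [← h, smul_inv_smul]) hne
    · exact absurd (by rw [← smul_inv_smul g y]; exact hmap g _ _ ((hNa _).mpr h)) hna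
    · obtain ⟨s, hs⟩ := h
      rw [← hs]
      have := hcm s.1 a c
      rwa [show (s.1 : G) • a = a from s.2] at this
  have hfarc : (Finset.univ.filter fun y => y ≠ a ∧ ¬ R a y).card = 1365 := by
    have : (Finset.univ.filter fun y => y ≠ a ∧ ¬ R a y) =
        Finset.univ \ insert a (Finset.univ.filter (R a)) := by
      ext y; simp
    rw [this, Finset.card_univ_sdiff, hΩ, Finset.card_insert_of_notMem (by simp [hirr a]), hdeg]
  have hcount : 416 * 416 = 416 + 416 * l + 1365 * m := by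
    have h0 : ∑ z ∈ Finset.univ.filter (R a), (Finset.univ.filter (R z)).card = ∑ y, cm a y := by
      simp only [cm, Finset.card_filter, ite_and]
      rw [Finset.sum_comm]
      refine Finset.sum_congr rfl fun y _ => ?_
      rw [Finset.sum_filter]
      refine Finset.sum_congr rfl fun z _ => ?_
      have e : R y z ↔ R z y := ⟨hsymm y z, hsymm z y⟩
      by_cases h1 : R a z <;> by_cases h2 : R z y <;> simp_all [R]
    rw [Finset.sum_congr rfl (fun z _ => hdeg z), Finset.sum_const, hdeg a, smul_eq_mul] at h0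
    have e1 : ∀ y, cm a y = (if y = a then 416 else 0) + (if R a y then l else 0) +
        (if y ≠ a ∧ ¬ R a y then m else 0) := by
      intro y
      by_cases h1 : y = a
      · subst h1
        simp [cm, hdeg, hirr]
      · by_cases h2 : R a y
        · simp [h1, h2, hadj a y h2]
        · simp [h1, h2, hnadj a y (Ne.symm h1) h2]
    rw [Finset.sum_congr rfl fun y _ => e1 y, Finset.sum_add_distrib, Finset.sum_add_distrib, Finset.sum_ite_eq',
      ← Finset.sum_filter, ← Finset.sum_filter, Finset.sum_const, Finset.sum_const, hdeg, hfarc] at h0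
    simpa using h0
  -- the near points
  have hn47 : (47 : ℕ) < 1782 := by norm_num
  let φ : Ω → ℕ := fun x => if hx : ∃ s : S, s • b = x then pt (ι hx.choose : presSuz.Grp) 47 else 0
  have hφ : ∀ s : S, φ (s • b) = pt (ι s : presSuz.Grp) 47 := fun s => by
    have hx : ∃ t : S, t • b = s • b := ⟨s, rfl⟩
    simp only [φ, dif_pos hx]
    have h1 : (s⁻¹ * hx.choose) • b = b := by rw [mul_smul, hx.choose_spec, inv_smul_smul]
    rw [hstab, map_mul, map_inv, Subgroup.coe_mul, Subgroup.coe_inv, pt_mul _ _ (lt_n hn47)] at h1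
    have h2 := congrArg (pt (ι s : presSuz.Grp)) h1
    rwa [pt_smul_inv _ (pt_lt' _ hn47)] at h2
  have hlift : ∀ x, R a x → ∃ s : S, s • b = x := fun x hx => (hNa x).mp hx
  have hφlt : ∀ x, R a x → φ x < 1782 := fun x hx => by
    obtain ⟨s, rfl⟩ := hlift x hx; rw [hφ]; exact pt_lt' _ hn47
  have hφlab : ∀ x, R a x → lab (φ x) = 2 := fun x hx => by
    obtain ⟨s, rfl⟩ := hlift x hx; rw [hφ, lab_Hs (ι s).2 hn47, lab47]
  have hφeq : ∀ (s : S) (x : Ω), R a x → φ (s • x) = pt (ι s : presSuz.Grp) (φ x) := fun s x hx => by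
    obtain ⟨t, rfl⟩ := hlift x hx
    rw [← mul_smul, hφ, hφ, map_mul, Subgroup.coe_mul, pt_mul _ _ (lt_n hn47)]
  have hfix : ∀ (s : S) (x y : Ω), R (s • x) (s • y) ↔ R x y := fun s x y => hiff s.1 x y
  have hSa : ∀ (s : S), s • a = a := fun s => s.2
  have hRa : ∀ (s : S) (x : Ω), R a (s • x) ↔ R a x := fun s x => by
    conv_lhs => rw [← hSa s]
    exact hfix s a x
  have hinj : ∀ x y, R a x → R a y → φ x = φ y → x = y := fun x y hx hy h => by
    obtain ⟨s, rfl⟩ := hlift x hx
    obtain ⟨t, rfl⟩ := hlift y hy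
    rw [hφ, hφ] at h
    have h1 : pt (ι (t⁻¹ * s) : presSuz.Grp) 47 = 47 := by
      rw [map_mul, map_inv, Subgroup.coe_mul, Subgroup.coe_inv, pt_mul _ _ (lt_n hn47), h, pt_inv_smul _ hn47]
    rw [← hstab, mul_smul, inv_smul_eq_iff] at h1
    exact h1
  have hsurj : ∀ d < 1782, lab d = 2 → ∃ x, R a x ∧ φ x = d := fun d hd h2 => by
    obtain ⟨g, hg, e⟩ := Hs_trans hn47 hd (lab47.trans h2.symm)
    refine ⟨ι.symm ⟨g, hg⟩ • b, (hNa _).mpr ⟨_, rfl⟩, ?_⟩
    rw [hφ, MulEquiv.apply_symm_apply]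
    exact e
  have hkb : φ b = 47 := by
    have := hφ 1
    rwa [one_smul, map_one, OneMemClass.coe_one, pt_one] at this
  have hab : R a b := ⟨1, one_smul _ _, one_smul _ _⟩
  -- the neighbours of b among those of a
  set T := (Finset.univ.filter fun z => R a z ∧ R b z).image φ with hT
  have hTc : T.card = l := Finset.card_image_of_injOn fun x hx y hy h =>
    hinj x y (Finset.mem_filter.mp hx).2.1 (Finset.mem_filter.mp hy).2.1 h
  obtain ⟨jorb, jgen, c4, c5⟩ := j_orbs
  set J : Subgroup presSuz.Grp := Hs ⊓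
    (MulAction.stabilizer (Equiv.Perm (Fin Suz1782.cert.T.n)) (⟨47, lt_n hn47⟩ : Fin Suz1782.cert.T.n)).comap π
    with hJ
  have hJgen : ∀ w ∈ jW, okWord w = true ∧ el w ∈ J := fun w hw => by
    have h := (jgen w hw).1
    have h' := h
    rw [okH, Bool.and_eq_true] at h'
    exact ⟨h'.1, el_mem_Hs h, Fin.ext ((el_gen h'.1 _).trans (jgen w hw).2)⟩
  have hJfix : ∀ g ∈ J, pt g 47 = 47 := fun g hg =>
    (pt_val g ⟨47, lt_n hn47⟩).trans (congrArg Fin.val hg.2)
  have hTmem : ∀ d ∈ T, d < 1782 ∧ lab d = 2 ∧ d ≠ 47 := fun d hd => by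
    obtain ⟨x, hx, rfl⟩ := Finset.mem_image.mp hd
    simp only [Finset.mem_filter, Finset.mem_univ, true_and] at hx
    exact ⟨hφlt x hx.1, hφlab x hx.1, fun h => hirr b (hinj x b hx.1 hab (h.trans hkb.symm) ▸ hx.2)⟩
  obtain ⟨L, hL, hLiff, hLsum⟩ := union_of_labels jorb hJgen T (fun d hd => (hTmem d hd).1) (fun g hg d hd => by
      obtain ⟨x, hx, rfl⟩ := Finset.mem_image.mp hd
      simp only [Finset.mem_filter, Finset.mem_univ, true_and] at hx
      set s := ι.symm ⟨g, hg.1⟩ with hs
      have hιs : (ι s : presSuz.Grp) = g := by rw [hs, MulEquiv.apply_symm_apply]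
      have hsb : s • b = b := (hstab s).mpr (by rw [hιs]; exact hJfix g hg)
      refine Finset.mem_image.mpr ⟨s • x, Finset.mem_filter.mpr ⟨Finset.mem_univ _, (hRa s x).mpr hx.1, ?_⟩, ?_⟩
      · rw [← hsb]; exact (hfix s b x).mpr hx.2
      · rw [hφeq s x hx.1, hιs]) ({4, 5} : Finset ℕ) (fun d hd => by
      obtain ⟨h1, h2, h3⟩ := hTmem d hd
      rcases jLab_adj h1 h2 h3 with ⟨e, -⟩ | ⟨e, -⟩ <;> simp [show orbLab jOrb d = _ from e])
  rw [hTc] at hLsum
  have hLm : L = {5} ∧ m = 96 := by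
    have key : ∀ L ∈ ({4, 5} : Finset ℕ).powerset, L = ∅ ∨ L = {4} ∨ L = {5} ∨ L = {4, 5} := by decide
    rcases key L hL with e | e | e | e <;> rw [e] at hLsum <;> simp [c4, c5] at hLsum
    · exfalso; rw [hLsum] at hcount; omega
    · exfalso; rw [hLsum] at hcount; omega
    · exact ⟨e, by rw [hLsum] at hcount; omega⟩
    · exfalso
      have hm0 : m = 0 := by rw [hLsum] at hcount; omega
      let C : Ω → Finset Ω := fun x => insert x (Finset.univ.filter (R x))
      have hCcard : ∀ x, (C x).card = 417 := fun x => by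
        rw [Finset.card_insert_of_notMem (by simp [hirr x]), hdeg]
      have hno : ∀ x y z, R x z → R y z → x = y ∨ R x y := fun x y z h1 h2 => by
        by_contra hh
        push Not at hh
        have := hnadj x y hh.1 hh.2
        rw [hm0, Finset.card_eq_zero] at this
        exact Finset.notMem_empty z (this ▸ Finset.mem_filter.mpr ⟨Finset.mem_univ z, h1, h2⟩)
      have hclosed : ∀ x y, y ∈ C x → C y = C x := fun x y hy => by
        refine Finset.eq_of_subset_of_card_le (fun z hz => ?_) (by rw [hCcard, hCcard])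
        simp only [C, Finset.mem_insert, Finset.mem_filter, Finset.mem_univ, true_and] at hy hz ⊢
        rcases hy with rfl | hy
        · exact hz
        rcases hz with rfl | hz
        · exact Or.inr hy
        rcases hno z x y (hsymm y z hz) hy with rfl | h
        · exact Or.inl rfl
        · exact Or.inr (hsymm z x h)
      have hsum := Finset.card_eq_sum_card_image C (Finset.univ : Finset Ω)
      have hfib : ∀ D ∈ Finset.univ.image C, (Finset.univ.filter fun x => C x = D).card = 417 := fun D hD => by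
        obtain ⟨x, -, rfl⟩ := Finset.mem_image.mp hD
        rw [← hCcard x]
        congr 1
        ext y
        simp only [Finset.mem_filter, Finset.mem_univ, true_and]
        exact ⟨fun h => h ▸ Finset.mem_insert_self _ _, hclosed x y⟩
      rw [Finset.card_univ, hΩ, Finset.sum_congr rfl hfib, Finset.sum_const, smul_eq_mul] at hsum
      omega
  obtain ⟨rfl, hm96⟩ := hLm
  have hiffN : ∀ x y, R a x → R a y → (R x y ↔ rel (φ x) (φ y) = 2) := fun x y hx hy => by
    obtain ⟨s, rfl⟩ := hlift x hx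
    obtain ⟨y', rfl⟩ : ∃ y', s • y' = y := ⟨s⁻¹ • y, smul_inv_smul s y⟩
    rw [hRa] at hy
    rw [hfix, hφ, hφeq s y' hy, rel_inv _ (lt_n hn47) (lt_n (hφlt y' hy))]
    by_cases hyb : φ y' = 47
    · rw [hyb, rel_self hn47]
      refine iff_of_false ?_ (by norm_num)
      rw [hinj y' b hy hab (hyb.trans hkb.symm)]
      exact hirr b
    · have h5 : R b y' ↔ orbLab jOrb (φ y') = 5 := by
        have h1 := hLiff (φ y') (hφlt y' hy)
        rw [Finset.mem_singleton] at h1
        rw [← h1]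
        constructor
        · exact fun hr => Finset.mem_image.mpr ⟨y', by simp [hy, hr], rfl⟩
        · intro hmem
          obtain ⟨z, hz, ez⟩ := Finset.mem_image.mp hmem
          simp only [Finset.mem_filter, Finset.mem_univ, true_and] at hz
          exact hinj z y' hz.1 hy ez ▸ hz.2
      rw [h5]
      rcases jLab_adj (hφlt y' hy) (hφlab y' hy) hyb with ⟨e4, e1⟩ | ⟨e5, e2⟩
      · rw [show orbLab jOrb (φ y') = 4 from e4, e1]
        exact iff_of_false (by norm_num) (by norm_num)
      · exact iff_of_true e5 e2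
  -- common neighbours of non-adjacent points among the 416
  have hmu : ∀ x y, R a x → R a y → x ≠ y → ¬ R x y →
      (Finset.univ.filter fun z => R a z ∧ R x z ∧ R y z).card = 20 := by
    intro x y hx hy hne hna
    have h1 : (Finset.univ.filter fun z => R a z ∧ R x z ∧ R y z).card = cnt (φ x) (φ y) := by
      rw [cnt, ← Finset.card_image_of_injOn (f := φ) (s := Finset.univ.filter fun z => R a z ∧ R x z ∧ R y z)
        (fun p hp q hq h => hinj p q (Finset.mem_filter.mp hp).2.1 (Finset.mem_filter.mp hq).2.1 h)]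
      refine congrArg Finset.card (Finset.ext fun d => ?_)
      simp only [Finset.mem_image, Finset.mem_filter, Finset.mem_univ, true_and, Finset.mem_range]
      constructor
      · rintro ⟨z, ⟨h1, h2, h3⟩, rfl⟩
        exact ⟨hφlt z h1, hφlab z h1, (hiffN x z hx h1).mp h2, (hiffN y z hy h1).mp h3⟩
      · rintro ⟨hd, h2, h3, h4⟩
        obtain ⟨z, hz, rfl⟩ := hsurj d hd h2
        exact ⟨z, ⟨hz, (hiffN x z hx hz).mpr h3, (hiffN y z hy hz).mpr h4⟩, rfl⟩
    rw [h1]
    obtain ⟨s, rfl⟩ := hlift x hx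
    obtain ⟨y', rfl⟩ : ∃ y', s • y' = y := ⟨s⁻¹ • y, smul_inv_smul s y⟩
    rw [hRa] at hy
    rw [hfix] at hna
    rw [hφ, hφeq s y' hy]
    refine cnt_nonadj (ι s).2 (hφlt y' hy) (hφlab y' hy) (fun h => hne ?_) fun h => hna ?_
    · rw [hinj y' b hy hab (h.trans hkb.symm)]
    · rw [hiffN b y' hab hy, hkb]; exact h
  -- the traces of the far points
  let Tr : Ω → Finset ℕ := fun y => (Finset.univ.filter fun z => R a z ∧ R y z).image φ
  have hTrmem : ∀ y x, R a x → (φ x ∈ Tr y ↔ R y x) := fun y x hx => by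
    constructor
    · intro h
      obtain ⟨z, hz, e⟩ := Finset.mem_image.mp h
      simp only [Finset.mem_filter, Finset.mem_univ, true_and] at hz
      exact hinj z x hz.1 hx e ▸ hz.2
    · exact fun h => Finset.mem_image.mpr ⟨x, by simp [hx, h], rfl⟩
  have hTrc : ∀ y, y ≠ a → ¬ R a y → (Tr y).card = 96 := fun y h1 h2 => by
    rw [← hm96, ← hnadj a y (Ne.symm h1) h2]
    exact Finset.card_image_of_injOn fun p hp q hq h =>
      hinj p q (Finset.mem_filter.mp hp).2.1 (Finset.mem_filter.mp hq).2.1 h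
  have hTrreg : ∀ y, y ≠ a → ¬ R a y → ∀ d ∈ Tr y, ((Tr y).filter fun d' => rel d d' = 2).card = 20 := by
    intro y h1 h2 d hd
    obtain ⟨x, hx, rfl⟩ := Finset.mem_image.mp hd
    simp only [Finset.mem_filter, Finset.mem_univ, true_and] at hx
    obtain ⟨g, hg⟩ := MulAction.exists_smul_eq G x a
    have e1 : R a (g • a) := by
      have := hmap g _ _ (hsymm a x hx.1)
      rwa [hg] at this
    have e2 : R a (g • y) := by
      have := hmap g _ _ (hsymm y x hx.2)
      rwa [hg] at this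
    rw [← hmu (g • a) (g • y) e1 e2 (fun h => h1 (MulAction.injective g h).symm) (fun h => h2 ((hiff g a y).mp h))]
    have e : ((Tr y).filter fun d' => rel (φ x) d' = 2) =
        (Finset.univ.filter fun z => R a z ∧ R y z ∧ R x z).image φ := by
      ext d'
      simp only [Finset.mem_filter, Finset.mem_image, Finset.mem_univ, true_and, Tr]
      constructor
      · rintro ⟨⟨z, ⟨z1, z2⟩, rfl⟩, hr⟩
        exact ⟨z, ⟨z1, z2, (hiffN x z hx.1 z1).mpr hr⟩, rfl⟩
      · rintro ⟨z, ⟨z1, z2, z3⟩, rfl⟩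
        exact ⟨⟨z, ⟨z1, z2⟩, rfl⟩, (hiffN x z hx.1 z1).mp z3⟩
    rw [e, Finset.card_image_of_injOn fun p hp q hq h =>
      hinj p q (Finset.mem_filter.mp hp).2.1 (Finset.mem_filter.mp hq).2.1 h]
    refine Finset.card_nbij' (fun z => g • z) (fun z => g⁻¹ • z) ?_ ?_ ?_ ?_
    · intro z hz
      simp only [Finset.coe_filter, Finset.mem_univ, true_and, Set.mem_ofPred_eq] at hz ⊢
      refine ⟨?_, hmap g _ _ hz.1, hmap g _ _ hz.2.1⟩
      have := hmap g _ _ hz.2.2
      rwa [hg] at this
    · intro z hz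
      simp only [Finset.coe_filter, Finset.mem_univ, true_and, Set.mem_ofPred_eq] at hz ⊢
      refine ⟨?_, ?_, ?_⟩
      · have := hmap g⁻¹ _ _ hz.2.1
        rwa [inv_smul_smul] at this
      · have := hmap g⁻¹ _ _ hz.2.2
        rwa [inv_smul_smul] at this
      · have := hmap g⁻¹ _ _ hz.1
        rwa [show g⁻¹ • a = x from inv_smul_eq_iff.mpr hg.symm] at this
    · exact fun z _ => inv_smul_smul g z
    · exact fun z _ => smul_inv_smul g z
  -- a far point fixed by a Sylow 2-subgroup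
  obtain ⟨c₀, hc₀, hUfix⟩ : ∃ c₀, c₀ ∈ MulAction.orbit S c ∧ ∀ g ∈ U₂, ∀ h : g ∈ Hs, ι.symm ⟨g, h⟩ • c₀ = c₀ := by
    haveI : Fact (Nat.Prime 2) := ⟨Nat.prime_two⟩
    set SL := (MulAction.stabilizer S c).map ι.toMonoidHom with hSL
    have hSLc : Nat.card SL = 184320 := by
      have h := (MulAction.stabilizer S c).card_mul_index
      rw [MulAction.index_stabilizer, hc, show Nat.card S = 251596800 from
        (Nat.card_congr ι.toEquiv).trans card_Hs] at h
      rw [hSL, Subgroup.card_map_of_injective ι.injective]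
      omega
    have hf : (251596800 : ℕ).factorization 2 = (184320 : ℕ).factorization 2 := by
      rw [show (251596800 : ℕ) = 184320 * 1365 by norm_num, Nat.factorization_mul (by norm_num) (by norm_num),
        Finsupp.add_apply, Nat.factorization_eq_zero_of_not_dvd (show ¬ 2 ∣ 1365 by norm_num), add_zero]
    obtain ⟨Q₀⟩ := (inferInstance : Nonempty (Sylow 2 SL))
    let SQ : Sylow 2 Hg := Sylow.ofCard ((Q₀ : Subgroup SL).map SL.subtype) (by
      rw [Subgroup.card_map_of_injective SL.subtype_injective, Q₀.card_eq_multiplicity, hSLc,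
        show Nat.card Hg = 251596800 from card_Hs, hf])
    have hUp : IsPGroup 2 (U₂.subgroupOf Hs) :=
      U₂_pgroup.of_equiv (Subgroup.subgroupOfEquivOfLe U₂_le).symm
    obtain ⟨SU, hSU⟩ := hUp.exists_le_sylow
    obtain ⟨h, hh⟩ := MulAction.exists_smul_eq Hg SU SQ
    refine ⟨(ι.symm h)⁻¹ • c, ⟨(ι.symm h)⁻¹, rfl⟩, fun g hg hgH => ?_⟩
    have hm : MulAut.conj h ⟨g, hgH⟩ ∈ ((h • SU : Sylow 2 Hg) : Subgroup Hg) := by
      rw [Sylow.coe_subgroup_smul]
      exact Subgroup.smul_mem_pointwise_smul _ (MulAut.conj h) _ (hSU hg)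
    rw [show ((h • SU : Sylow 2 Hg) : Subgroup Hg) = (SQ : Subgroup Hg) from congrArg Sylow.toSubgroup hh] at hm
    obtain ⟨s, hs, es⟩ := Subgroup.map_subtype_le _ hm
    have : s = ι.symm h * ι.symm ⟨g, hgH⟩ * (ι.symm h)⁻¹ := by
      apply ι.injective
      rw [map_mul, map_mul, map_inv, MulEquiv.apply_symm_apply, MulEquiv.apply_symm_apply]
      exact es
    have hs' : s • c = c := hs
    rw [this, mul_smul, mul_smul] at hs'
    exact (eq_inv_smul_iff.mpr hs')
  have hc0far := (hfarO c₀).mpr hc₀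
  have hc0orb : ∀ y, (y ≠ a ∧ ¬ R a y) → ∃ s : S, s • c₀ = y := fun y hy => by
    have h1 := (hfarO y).mp hy
    rw [← MulAction.orbit_eq_iff.mpr hc₀] at h1
    exact h1
  have htr0 : Tr c₀ = tr 1 := by
    refine trace_unique _ (fun d hd => ?_) (fun g hg d hd => ?_) (hTrc c₀ hc0far.1 hc0far.2)
      (hTrreg c₀ hc0far.1 hc0far.2)
    · obtain ⟨x, hx, rfl⟩ := Finset.mem_image.mp hd
      simp only [Finset.mem_filter, Finset.mem_univ, true_and] at hx
      exact ⟨hφlt x hx.1, hφlab x hx.1⟩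
    · obtain ⟨x, hx, rfl⟩ := Finset.mem_image.mp hd
      simp only [Finset.mem_filter, Finset.mem_univ, true_and] at hx
      set s := ι.symm ⟨g, U₂_le hg⟩ with hs
      refine Finset.mem_image.mpr ⟨s • x, Finset.mem_filter.mpr ⟨Finset.mem_univ _, (hRa s x).mpr hx.1, ?_⟩, ?_⟩
      · rw [← hUfix g hg (U₂_le hg)]; exact (hfix s c₀ x).mpr hx.2
      · rw [hφeq s x hx.1, hs, MulEquiv.apply_symm_apply]
  have hn1 : (1 : ℕ) < 1782 := by norm_num
  have hfix1 : ∀ s : S, s • c₀ = c₀ → pt (ι s : presSuz.Grp) 1 = 1 := fun s hs => by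
    refine eq_one_of_trace (pt_lt' _ hn1) (by rw [lab_Hs (ι s).2 hn1, lab1]) fun d hd => ?_
    have hd' := mem_tr.mp hd
    obtain ⟨x, hx, rfl⟩ := hsurj d hd'.1 hd'.2.1
    rw [← htr0, hTrmem c₀ x hx] at hd
    obtain ⟨x', rfl⟩ : ∃ x', s • x' = x := ⟨s⁻¹ • x, smul_inv_smul s x⟩
    rw [hRa] at hx
    rw [← hs, hfix, ← hTrmem c₀ x' hx, htr0, mem_tr] at hd
    rw [hφeq s x' hx, rel_inv _ (lt_n hn1) (lt_n hd.1)]
    exact hd.2.2
  let χ : Ω → ℕ := fun y => if hy : ∃ s : S, s • c₀ = y then pt (ι hy.choose : presSuz.Grp) 1 else 0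
  have hχ : ∀ s : S, χ (s • c₀) = pt (ι s : presSuz.Grp) 1 := fun s => by
    have hx : ∃ t : S, t • c₀ = s • c₀ := ⟨s, rfl⟩
    simp only [χ, dif_pos hx]
    have h1 := hfix1 (s⁻¹ * hx.choose) (by rw [mul_smul, hx.choose_spec, inv_smul_smul])
    rw [map_mul, map_inv, Subgroup.coe_mul, Subgroup.coe_inv, pt_mul _ _ (lt_n hn1)] at h1
    have h2 := congrArg (pt (ι s : presSuz.Grp)) h1
    rwa [pt_smul_inv _ (pt_lt' _ hn1)] at h2
  let θ : Ω → Fin Suz1782.cert.T.n := fun y =>
    if y = a then ⟨0, lt_n (by norm_num)⟩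
    else if hy : R a y then ⟨φ y, lt_n (hφlt y hy)⟩
    else ⟨χ y % 1782, lt_n (Nat.mod_lt _ (by norm_num))⟩
  have hθa : (θ a : ℕ) = 0 := by simp [θ]
  have hθn : ∀ y, R a y → (θ y : ℕ) = φ y := fun y hy => by
    have hne : y ≠ a := fun h => hirr a (h ▸ hy)
    simp [θ, hne, hy]
  have hθf : ∀ s : S, (θ (s • c₀) : ℕ) = pt (ι s : presSuz.Grp) 1 := fun s => by
    have h := (hfarO (s • c₀)).mpr (by
      rw [← MulAction.orbit_eq_iff.mpr hc₀]; exact ⟨s, rfl⟩)
    simp only [θ, h.1, h.2, if_false, dif_neg, not_false_eq_true]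
    rw [hχ, Nat.mod_eq_of_lt (pt_lt' _ hn1)]
  have hθsurj : Function.Surjective θ := by
    intro d
    have hd : (d : ℕ) < 1782 := d.2
    have h3 := lab_lt hd
    rcases (show lab d = 0 ∨ lab d = 1 ∨ lab d = 2 by omega) with h | h | h
    · exact ⟨a, Fin.ext (by rw [hθa, (lab_zero hd).mp h])⟩
    · obtain ⟨g, hg, e⟩ := Hs_trans hn1 hd (lab1.trans h.symm)
      exact ⟨ι.symm ⟨g, hg⟩ • c₀, Fin.ext (by rw [hθf, MulEquiv.apply_symm_apply]; exact e)⟩
    · obtain ⟨x, hx, e⟩ := hsurj d hd h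
      exact ⟨x, Fin.ext (by rw [hθn x hx, e])⟩
  have hθbij : Function.Bijective θ := (Fintype.bijective_iff_surjective_and_card _).mpr
    ⟨hθsurj, by rw [hΩ, Fintype.card_fin]; rfl⟩
  let Θ : Ω ≃ Fin Suz1782.cert.T.n := Equiv.ofBijective θ hθbij
  -- adjacency
  have hNF : ∀ x (s : S), R a x → (R x (s • c₀) ↔ rel (φ x) (pt (ι s : presSuz.Grp) 1) = 2) := by
    intro x s hx
    obtain ⟨x', rfl⟩ : ∃ x', s • x' = x := ⟨s⁻¹ • x, smul_inv_smul s x⟩
    rw [hRa] at hx
    rw [hfix, hφeq s x' hx, rel_inv _ (lt_n (hφlt x' hx)) (lt_n hn1), rel_comm (hφlt x' hx) hn1]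
    constructor
    · intro h
      have := (hTrmem c₀ x' hx).mpr (hsymm _ _ h)
      rw [htr0, mem_tr] at this
      exact this.2.2
    · intro h
      refine hsymm _ _ ((hTrmem c₀ x' hx).mp ?_)
      rw [htr0, mem_tr]
      exact ⟨hφlt x' hx, hφlab x' hx, h⟩
  set D := ((Finset.univ.filter fun y => R c₀ y ∧ y ≠ a ∧ ¬ R a y).image fun y => (θ y : ℕ)) with hD
  have hDc : D.card = 320 := by
    rw [hD, Finset.card_image_of_injective _ (fun p q h => hθbij.1 (Fin.ext h))]
    have h1 : (Finset.univ.filter fun y => R c₀ y ∧ y ≠ a ∧ ¬ R a y) =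
        Finset.univ.filter (R c₀) \ Finset.univ.filter (fun z => R a z ∧ R c₀ z) := by
      ext y
      simp only [Finset.mem_filter, Finset.mem_univ, true_and, Finset.mem_sdiff]
      constructor
      · exact fun h => ⟨h.1, fun h' => h.2.2 h'.1⟩
      · exact fun h => ⟨h.1, fun e => hc0far.2 (hsymm _ _ (e ▸ h.1)), fun h' => h.2 ⟨h', h.1⟩⟩
    rw [h1, Finset.card_sdiff_of_subset (fun y hy => by
      simp only [Finset.mem_filter, Finset.mem_univ, true_and] at hy ⊢; exact hy.2), hdeg]
    have h2 := hnadj a c₀ hc0far.1.symm hc0far.2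
    rw [hm96] at h2
    simp only [cm] at h2
    rw [h2]
  have hDmem : ∀ y, (y ≠ a ∧ ¬ R a y) → ((θ y : ℕ) ∈ D ↔ R c₀ y) := fun y hy => by
    constructor
    · intro h
      obtain ⟨z, hz, e⟩ := Finset.mem_image.mp h
      simp only [Finset.mem_filter, Finset.mem_univ, true_and] at hz
      exact hθbij.1 (Fin.ext e) ▸ hz.1
    · exact fun h => Finset.mem_image.mpr ⟨y, by simp [h, hy.1, hy.2], rfl⟩
  have hθ0 : (θ c₀ : ℕ) = 1 := by
    have := hθf 1
    rwa [one_smul, map_one, OneMemClass.coe_one, pt_one] at this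
  have hDlab : ∀ d ∈ D, d < 1782 ∧ lab d = 1 ∧ d ≠ 1 := by
    intro d hd
    obtain ⟨y, hy, rfl⟩ := Finset.mem_image.mp hd
    simp only [Finset.mem_filter, Finset.mem_univ, true_and] at hy
    obtain ⟨s, rfl⟩ := hc0orb y hy.2
    refine ⟨(θ _).2, by rw [hθf, lab_Hs (ι s).2 hn1, lab1], fun h => hirr c₀ ?_⟩
    have := hθbij.1 (Fin.ext (h.trans hθ0.symm))
    rw [this] at hy
    exact hy.1
  set Sone : Subgroup presSuz.Grp := Hs ⊓
    (MulAction.stabilizer (Equiv.Perm (Fin Suz1782.cert.T.n)) (⟨1, lt_n hn1⟩ : Fin Suz1782.cert.T.n)).comap π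
  have hDinv : ∀ g ∈ Sone, ∀ d ∈ D, pt g d ∈ D := by
    intro g hg d hd
    obtain ⟨y, hy, rfl⟩ := Finset.mem_image.mp hd
    simp only [Finset.mem_filter, Finset.mem_univ, true_and] at hy
    set s := ι.symm ⟨g, hg.1⟩ with hs
    have hιs : (ι s : presSuz.Grp) = g := by rw [hs, MulEquiv.apply_symm_apply]
    have hsc : s • c₀ = c₀ := hθbij.1 (Fin.ext (by
      rw [hθ0, hθf, hιs]
      exact (pt_val g ⟨1, lt_n hn1⟩).trans (congrArg Fin.val hg.2)))
    obtain ⟨t, rfl⟩ := hc0orb y hy.2
    refine Finset.mem_image.mpr ⟨(s * t) • c₀, ?_, ?_⟩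
    · simp only [Finset.mem_filter, Finset.mem_univ, true_and]
      refine ⟨?_, (hfarO _).mpr (by rw [← MulAction.orbit_eq_iff.mpr hc₀]; exact ⟨s * t, rfl⟩)⟩
      have := (hfix s c₀ _).mpr hy.1
      rwa [hsc, ← mul_smul] at this
    · rw [hθf, hθf, map_mul, Subgroup.coe_mul, pt_mul _ _ (lt_n hn1), hιs]
  have hFF : ∀ s t : S, (R (s • c₀) (t • c₀) ↔
      rel (pt (ι s : presSuz.Grp) 1) (pt (ι t : presSuz.Grp) 1) = 2) := by
    intro s t
    obtain ⟨u, rfl⟩ : ∃ u, s * u = t := ⟨s⁻¹ * t, mul_inv_cancel_left s t⟩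
    rw [mul_smul, hfix, map_mul, Subgroup.coe_mul, pt_mul _ _ (lt_n hn1), rel_inv _ (lt_n hn1)
      (lt_n (pt_lt' _ hn1))]
    by_cases hu : pt (ι u : presSuz.Grp) 1 = 1
    · have : u • c₀ = c₀ := hθbij.1 (Fin.ext (by rw [hθf, hu, hθ0]))
      rw [this, hu, rel_self hn1]
      exact iff_of_false (hirr c₀) (by norm_num)
    · have hy : u • c₀ ≠ a ∧ ¬ R a (u • c₀) := (hfarO _).mpr (by
        rw [← MulAction.orbit_eq_iff.mpr hc₀]; exact ⟨u, rfl⟩)
      rw [← hDmem _ hy, hθf]
      exact far_far Sone (fun g hg h1 => ⟨hg, Fin.ext ((pt_val g ⟨1, lt_n hn1⟩).symm.trans h1)⟩) D hDlab hDinv hDc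
        (pt_lt' _ hn1) (by rw [lab_Hs (ι u).2 hn1, lab1]) hu
  have hRrel : ∀ x y, R x y ↔ rel (θ x : ℕ) (θ y : ℕ) = 2 := by
    have hcase : ∀ x, x = a ∨ R a x ∨ ∃ s : S, s • c₀ = x := fun x => by
      by_cases h1 : x = a
      · exact Or.inl h1
      by_cases h2 : R a x
      · exact Or.inr (Or.inl h2)
      · exact Or.inr (Or.inr (hc0orb x ⟨h1, h2⟩))
    have hA : ∀ y, R a y ↔ rel 0 (θ y : ℕ) = 2 := fun y => by
      rw [rel_zero_left]
      rcases hcase y with rfl | h | ⟨s, rfl⟩
      · rw [hθa, (lab_zero (by norm_num)).mpr rfl]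
        exact iff_of_false (hirr _) (by norm_num)
      · rw [hθn y h, hφlab y h]; exact iff_of_true h rfl
      · rw [hθf, lab_Hs (ι s).2 hn1, lab1]
        exact iff_of_false ((hfarO _).mpr (by rw [← MulAction.orbit_eq_iff.mpr hc₀]; exact ⟨s, rfl⟩)).2 (by norm_num)
    intro x y
    rcases hcase x with rfl | hx | ⟨s, rfl⟩ <;> rcases hcase y with rfl | hy | ⟨t, rfl⟩
    all_goals first
      | exact iff_of_false (hirr _) (by rw [rel_self (θ _).2]; norm_num)
      | (rw [hθa]; exact hA _)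
      | (rw [hθn x hx, hθn y hy]; exact hiffN x y hx hy)
      | (rw [hθn x hx, hθf t]; exact hNF x t hx)
      | (rw [hθn y hy, hθf s, rel_comm (pt_lt' _ hn1) (hφlt y hy)]
         exact ⟨fun h => (hNF y s hy).mp (hsymm _ _ h), fun h => hsymm _ _ ((hNF y s hy).mpr h)⟩)
      | (rw [hθf s, hθf t]; exact hFF s t)
      | (rw [rel_comm (θ _).2 (θ _).2, hθa]
         exact ⟨fun h => (hA _).mp (hsymm _ _ h), fun h => hsymm _ _ ((hA _).mpr h)⟩)
  have hrel : ∀ (g : G) (x y : Ω), rel (θ (g • x) : ℕ) (θ (g • y) : ℕ) = rel (θ x : ℕ) (θ y : ℕ) := by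
    intro g x y
    by_cases hxy : x = y
    · rw [hxy, rel_self (θ _).2, rel_self (θ _).2]
    have hne : g • x ≠ g • y := fun h => hxy (MulAction.injective g h)
    have hz : ∀ p q : Ω, p ≠ q → rel (θ p : ℕ) (θ q : ℕ) ≠ 0 := fun p q hpq h =>
      hpq (hθbij.1 (Fin.ext (eq_of_rel (θ p).2 (θ q).2 h)))
    have h1 := rel_lt (θ x).2 (θ y).2
    have h2 := rel_lt (θ (g • x)).2 (θ (g • y)).2
    have h3 := hz x y hxy
    have h4 := hz _ _ hne
    by_cases hr : R x y
    · rw [(hRrel _ _).mp hr, (hRrel _ _).mp (hmap g x y hr)]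
    · have h5 : rel (θ x : ℕ) (θ y : ℕ) ≠ 2 := fun h => hr ((hRrel x y).mpr h)
      have h6 : rel (θ (g • x) : ℕ) (θ (g • y) : ℕ) ≠ 2 := fun h => hr ((hiff g x y).mp ((hRrel _ _).mpr h))
      omega
  -- the group inside the automorphisms of the model
  have hmem : ∀ g : G, (Θ.symm.trans ((g : Equiv.Perm Ω).trans Θ)) ∈ AutGr := fun g => mem_AutGr.mpr fun i j => by
    show rel (θ ((g : Equiv.Perm Ω) (Θ.symm i)) : ℕ) (θ ((g : Equiv.Perm Ω) (Θ.symm j)) : ℕ) = _
    have := hrel g (Θ.symm i) (Θ.symm j)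
    rw [show θ (Θ.symm i) = i from Θ.apply_symm_apply i, show θ (Θ.symm j) = j from Θ.apply_symm_apply j] at this
    exact this
  let act : G →* AutGr :=
    { toFun := fun g => ⟨_, hmem g⟩
      map_one' := Subtype.ext (Equiv.ext fun i => Θ.apply_symm_apply i)
      map_mul' := fun g h => Subtype.ext (Equiv.ext fun i => by
        show Θ ((g : Equiv.Perm Ω) ((h : Equiv.Perm Ω) (Θ.symm i))) =
          Θ ((g : Equiv.Perm Ω) (Θ.symm (Θ ((h : Equiv.Perm Ω) (Θ.symm i)))))
        rw [Θ.symm_apply_apply]) }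
  have hact : Function.Injective act := fun g h he => by
    refine Subtype.ext (Equiv.ext fun x => Θ.injective ?_)
    have := congrArg (fun q : AutGr => (q : Equiv.Perm _) (Θ x)) he
    simpa [act] using this
  have hcS : Nat.card S = 251596800 := (Nat.card_congr ι.toEquiv).trans card_Hs
  have hGcard : Nat.card G = 448345497600 := by
    rw [← S.card_mul_index, MulAction.index_stabilizer_of_transitive, Nat.card_eq_fintype_card (α := Ω), hΩ, hcS]
  -- perfectness
  have hperf : commutator G = ⊤ := by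
    obtain ⟨hsimp, hna⟩ := Cfsg.Agent.S1055.result (F := K) (by
      by_contra h
      push Not at h
      have : Fintype.card K ≤ 2 := by
        rw [← Finset.card_univ]
        refine (Finset.card_le_card (t := {0, 1}) fun x _ => ?_).trans (Finset.card_le_two)
        by_cases hx : x = 0
        · simp [hx]
        · simp [h x hx]
      omega)
    have hKperf : commutator (Cfsg.Lie.chevG2.group K) = ⊤ :=
      ((inferInstance : (commutator (Cfsg.Lie.chevG2.group K)).Normal).eq_bot_or_eq_top).resolve_left fun h =>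
        hna ((commutator_eq_bot_iff _).mp h)
    have hSle : S ≤ commutator G := by
      have h1 : (commutator (Cfsg.Lie.chevG2.group K)).map (S.subtype.comp e.symm.toMonoidHom) ≤ commutator G := by
        rw [commutator_def, commutator_def, Subgroup.map_commutator]
        exact Subgroup.commutator_mono le_top le_top
      rw [hKperf] at h1
      intro g hg
      exact h1 ⟨e ⟨g, hg⟩, trivial, by simp⟩
    have hblock := MulAction.IsBlock.orbit_of_normal (G := G) (N := commutator G) a
    have hdvd := hblock.ncard_dvd_card ⟨a, MulAction.mem_orbit_self a⟩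
    rw [Nat.card_eq_fintype_card, hΩ] at hdvd
    set O := MulAction.orbit (commutator G) a with hO
    have hOinv : ∀ (s : S) (x : Ω), x ∈ O → s • x ∈ O := fun s x ⟨d, hd⟩ => by
      refine ⟨⟨s.1, hSle s.2⟩ * d, ?_⟩
      show (⟨s.1, hSle s.2⟩ * d : commutator G) • a = s • x
      rw [mul_smul, show d • a = x from hd]
      rfl
    have hOb : b ∈ O → MulAction.orbit S b ⊆ O := fun h y ⟨s, hs⟩ => hs ▸ hOinv s b h
    have hOc : c ∈ O → MulAction.orbit S c ⊆ O := fun h y ⟨s, hs⟩ => hs ▸ hOinv s c h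
    have hcase : O = Set.univ := by
      by_cases hbO : b ∈ O
      · by_cases hcO : c ∈ O
        · refine Set.eq_univ_iff_forall.mpr fun y => ?_
          rcases horbit y with rfl | h | h
          exacts [MulAction.mem_orbit_self _, hOb hbO h, hOc hcO h]
        · exfalso
          have : O = insert a (MulAction.orbit S b) := by
            refine Set.Subset.antisymm (fun y hy => ?_) (Set.insert_subset (MulAction.mem_orbit_self _) (hOb hbO))
            rcases horbit y with rfl | h | h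
            · exact Set.mem_insert _ _
            · exact Set.mem_insert_of_mem _ h
            · obtain ⟨s, hs⟩ := h
              exact absurd (by simpa [← hs] using hOinv s⁻¹ y hy) hcO
          rw [this, Set.ncard_insert_of_notMem (fun h => hirr a ((hNa a).mpr h)), hb] at hdvd
          norm_num at hdvd
      · exfalso
        by_cases hcO : c ∈ O
        · have : O = insert a (MulAction.orbit S c) := by
            refine Set.Subset.antisymm (fun y hy => ?_) (Set.insert_subset (MulAction.mem_orbit_self _) (hOc hcO))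
            rcases horbit y with rfl | h | h
            · exact Set.mem_insert _ _
            · obtain ⟨s, hs⟩ := h
              exact absurd (by simpa [← hs] using hOinv s⁻¹ y hy) hbO
            · exact Set.mem_insert_of_mem _ h
          rw [this, Set.ncard_insert_of_notMem (fun h => ((hfarO a).mpr h).1 rfl), hc] at hdvd
          norm_num at hdvd
        · have hall : ∀ y, y ∈ O → y = a := fun y hy => by
            rcases horbit y with h | h | h
            · exact h
            · obtain ⟨s, hs⟩ := h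
              exact absurd (by simpa [← hs] using hOinv s⁻¹ y hy) hbO
            · obtain ⟨s, hs⟩ := h
              exact absurd (by simpa [← hs] using hOinv s⁻¹ y hy) hcO
          have heq : commutator G = S := le_antisymm (fun d hd => hall _ ⟨⟨d, hd⟩, rfl⟩) hSle
          obtain ⟨g, hg⟩ := MulAction.exists_smul_eq G a b
          have hbfix : ∀ s : S, s • b = b := fun s => by
            have h1 : g⁻¹ * s.1 * g⁻¹⁻¹ ∈ commutator G :=
              (inferInstance : (commutator G).Normal).conj_mem _ (hSle s.2) g⁻¹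
            rw [heq, inv_inv] at h1
            have h2 : (g⁻¹ * s.1 * g) • a = a := h1
            rw [mul_smul, hg, mul_smul, inv_smul_eq_iff, hg] at h2
            exact h2
          have : MulAction.orbit S b = {b} := Set.eq_singleton_iff_unique_mem.mpr
            ⟨MulAction.mem_orbit_self _, fun y ⟨s, hs⟩ => hs ▸ hbfix s⟩
          rw [this, Set.ncard_singleton] at hb
          omega
    rw [eq_top_iff]
    intro g _
    obtain ⟨d, hd⟩ : g • a ∈ O := hcase ▸ Set.mem_univ _
    have : (d : G)⁻¹ * g ∈ S := by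
      show ((d : G)⁻¹ * g) • a = a
      rw [mul_smul, inv_smul_eq_iff]
      exact hd.symm
    have h2 := mul_mem d.2 (hSle this)
    rwa [mul_inv_cancel_left] at h2
  obtain ⟨eG⟩ := iso_of_action hperf hGcard act hact
  exact ⟨eG⟩

end CfsgLib.SuzRecog
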